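import Mathlib

/-!
A minimal normal subgroup of a finite group is a direct power of a simple group.
-/

set_option autoImplicit false

namespace Cfsg.Agent.H37

open scoped Pointwise

universe u

section

variable {H : Type u} [Group H]

lemma mem_conj_smul_iff {T : Subgroup H} {g x : H} : x ∈ MulAut.conj g • T ↔ g⁻¹ * x * g ∈ T := by
  rw [Subgroup.mem_pointwise_smul_iff_inv_smul_mem, ← map_inv, MulAut.smul_def,
    MulAut.conj_apply, inv_inv]

/-- `K` is invariant under conjugation by elements of `N`. -/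
def InvUnder (N K : Subgroup H) : Prop := ∀ n ∈ N, ∀ k ∈ K, n * k * n⁻¹ ∈ K

lemma InvUnder.inf {N K L : Subgroup H} (hK : InvUnder N K) (hL : InvUnder N L) : InvUnder N (K ⊓ L) :=
  fun n hn k hk => ⟨hK n hn k hk.1, hL n hn k hk.2⟩

lemma InvUnder.sup {N K L : Subgroup H} (hK : InvUnder N K) (hL : InvUnder N L) : InvUnder N (K ⊔ L) := by
  intro n hn k hk
  have h1 : (K ⊔ L).map (MulAut.conj n).toMonoidHom ≤ K ⊔ L := by
    rw [Subgroup.map_sup]
    apply sup_le_sup
    · rintro _ ⟨x, hx, rfl⟩; exact hK n hn x hx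
    · rintro _ ⟨x, hx, rfl⟩; exact hL n hn x hx
  exact h1 ⟨k, hk, rfl⟩

lemma InvUnder.conj {N K : Subgroup H} (hN : N.Normal) (hK : InvUnder N K) (g : H) :
    InvUnder N (MulAut.conj g • K) := by
  intro n hn k hk
  rw [mem_conj_smul_iff] at hk ⊢
  have h1 : g⁻¹ * n * g ∈ N := by
    have := hN.conj_mem n hn g⁻¹; simpa using this
  have := hK _ h1 _ hk
  convert this using 1
  group

lemma InvUnder.commute {N K L : Subgroup H} (hK : InvUnder N K) (hL : InvUnder N L) (hKN : K ≤ N)
    (hLN : L ≤ N) (h : K ⊓ L = ⊥) {x y : H} (hx : x ∈ K) (hy : y ∈ L) : x * y = y * x := by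
  have h1 : x * y * x⁻¹ * y⁻¹ ∈ K ⊓ L := by
    refine ⟨?_, ?_⟩
    · have := K.mul_mem hx (hK y (hLN hy) x⁻¹ (K.inv_mem hx))
      rw [show x * y * x⁻¹ * y⁻¹ = x * (y * x⁻¹ * y⁻¹) by group]
      exact this
    · exact L.mul_mem (hL x (hKN hx) y hy) (L.inv_mem hy)
  rw [h, Subgroup.mem_bot] at h1
  calc x * y = (x * y * x⁻¹ * y⁻¹) * (y * x) := by group
    _ = y * x := by rw [h1, one_mul]

/-- internal direct product of two commuting subgroups with trivial intersection -/
noncomputable def prodEquivSup (K L : Subgroup H) (hcomm : ∀ x ∈ K, ∀ y ∈ L, x * y = y * x)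
    (hinf : K ⊓ L = ⊥) : K × L ≃* (K ⊔ L : Subgroup H) := by
  let f : K × L →* H := MonoidHom.noncommCoprod K.subtype L.subtype
    (fun x y => hcomm x x.2 y y.2)
  have hf : ∀ z : K × L, f z = (z.1 : H) * z.2 := fun z => rfl
  have hrange : f.range = K ⊔ L := by
    have h := MonoidHom.noncommCoprod_range K.subtype L.subtype (fun x y => hcomm x x.2 y y.2)
    rw [Subgroup.range_subtype, Subgroup.range_subtype] at h
    exact h
  have hinj : Function.Injective f := by
    rw [injective_iff_map_eq_one]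
    rintro ⟨x, y⟩ h
    rw [hf] at h
    have h1 : (x : H) ∈ K ⊓ L := by
      refine ⟨x.2, ?_⟩
      rw [show (x : H) = (y : H)⁻¹ from eq_inv_of_mul_eq_one_left h]
      exact L.inv_mem y.2
    rw [hinf, Subgroup.mem_bot] at h1
    have h2 : (y : H) = 1 := by
      have h' : (x : H) * (y : H) = 1 := h
      rw [h1, one_mul] at h'; exact h'
    exact Prod.ext (Subtype.ext h1) (Subtype.ext h2)
  exact (MonoidHom.ofInjective hinj).trans (MulEquiv.subgroupCongr hrange)

/-- appending a factor -/
def snocEquiv (T : Type u) [Group T] (m : ℕ) : (Fin m → T) × T ≃* (Fin (m + 1) → T) where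
  toFun z := Fin.snoc z.1 z.2
  invFun f := (Fin.init f, f (Fin.last m))
  left_inv z := by simp
  right_inv f := by simp
  map_mul' z w := by
    ext i
    refine Fin.lastCases ?_ (fun i => ?_) i
    · simp
    · simp

/-- minimal normal subgroup as a direct power of a simple subgroup -/
theorem minNormal_structure [Finite H] (N : Subgroup H) (hN : N.Normal) (hN1 : N ≠ ⊥)
    (hmin : ∀ M : Subgroup H, M.Normal → M ≤ N → M = ⊥ ∨ M = N) :
    ∃ (T : Subgroup H) (m : ℕ), T ≤ N ∧ InvUnder N T ∧ IsSimpleGroup T ∧ 0 < m ∧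
      Nonempty (N ≃* (Fin m → T)) := by
  classical
  let S : Set (Subgroup H) := {T | T ≤ N ∧ T ≠ ⊥ ∧ InvUnder N T}
  have hSne : S.Nonempty := ⟨N, le_rfl, hN1, fun n _ k hk => hN.conj_mem k hk n⟩
  obtain ⟨T, hT⟩ := (Set.toFinite S).exists_minimal hSne
  have hTmin : ∀ K ∈ S, K ≤ T → K = T := fun K hK hKT => le_antisymm hKT (hT.2 hK hKT)
  obtain ⟨⟨hTN, hT1, hTn⟩, -⟩ := hT
  have hconjN : ∀ g : H, MulAut.conj g • T ≤ N := by
    intro g x hx
    rw [mem_conj_smul_iff] at hx
    have := hN.conj_mem _ (hTN hx) g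
    convert this using 1
    group
  -- minimality of conjugates
  have hconjmin : ∀ g : H, ∀ K : Subgroup H, InvUnder N K → K ≤ MulAut.conj g • T → K = ⊥ ∨
      K = MulAut.conj g • T := by
    intro g K hK hle
    by_cases hb : K = ⊥
    · exact Or.inl hb
    · right
      have h1 : MulAut.conj g⁻¹ • K = T := by
        apply hTmin
        · refine ⟨?_, ?_, hK.conj hN _⟩
          · intro x hx
            have h2 : x ∈ MulAut.conj g⁻¹ • (MulAut.conj g • T) :=
              Subgroup.pointwise_smul_le_pointwise_smul_iff.2 hle hx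
            rw [map_inv, inv_smul_smul] at h2
            exact hTN h2
          · intro h
            apply hb
            have := congrArg (fun L => MulAut.conj g • L) h
            simp only [map_inv, smul_inv_smul] at this
            rw [this, Subgroup.smul_bot]
        · have := Subgroup.pointwise_smul_le_pointwise_smul_iff (a := MulAut.conj g⁻¹) |>.2 hle
          rwa [map_inv, inv_smul_smul, ← map_inv] at this
      rw [← h1, map_inv, smul_inv_smul]
  -- maximal internal direct product of conjugates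
  let D : Set (Subgroup H) := {P | P ≤ N ∧ InvUnder N P ∧ ∃ m : ℕ, Nonempty (P ≃* (Fin m → T))}
  have hDne : D.Nonempty := by
    refine ⟨⊥, bot_le, ?_, 0, ?_⟩
    · intro n _ k hk
      rw [Subgroup.mem_bot] at hk ⊢
      rw [hk]; group
    · refine ⟨{ toFun := fun _ => 1, invFun := fun _ => 1, left_inv := ?_, right_inv := ?_, map_mul' := ?_ }⟩
      · intro x; exact Subsingleton.elim _ _
      · intro x; exact Subsingleton.elim _ _
      · intro x y; simp
  obtain ⟨P, hP⟩ := (Set.toFinite D).exists_maximal hDne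
  have hPmax : ∀ Q ∈ D, P ≤ Q → Q ≤ P := fun Q hQ h => hP.2 hQ h
  obtain ⟨⟨hPN, hPn, m, ⟨e⟩⟩, -⟩ := hP
  have hall : ∀ g : H, MulAut.conj g • T ≤ P := by
    intro g
    rcases hconjmin g (P ⊓ (MulAut.conj g • T)) (hPn.inf (hTn.conj hN g)) inf_le_right with h | h
    · have hcomm : ∀ x ∈ P, ∀ y ∈ MulAut.conj g • T, x * y = y * x := fun x hx y hy =>
        InvUnder.commute hPn (hTn.conj hN g) hPN (hconjN g) h hx hy
      have hD : P ⊔ (MulAut.conj g • T) ∈ D := by
        refine ⟨sup_le hPN (hconjN g), hPn.sup (hTn.conj hN g), m + 1, ⟨?_⟩⟩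
        exact (prodEquivSup P (MulAut.conj g • T) hcomm h).symm.trans
          ((MulEquiv.prodCongr e (Subgroup.equivSMul (MulAut.conj g) T).symm).trans (snocEquiv T m))
      exact le_sup_right.trans (hPmax _ hD le_sup_left)
    · rw [← h]; exact inf_le_left
  have hnorm : (⨆ g : H, MulAut.conj g • T).Normal := by
    refine ⟨fun x hx g => ?_⟩
    have h1 : (⨆ g : H, MulAut.conj g • T).map (MulAut.conj g).toMonoidHom ≤
        ⨆ g : H, MulAut.conj g • T := by
      rw [Subgroup.map_iSup]
      apply iSup_le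
      intro k
      refine le_trans ?_ (le_iSup _ (g * k))
      rintro _ ⟨y, hy, rfl⟩
      change _ ∈ MulAut.conj k • T at hy
      rw [mem_conj_smul_iff] at hy ⊢
      convert hy using 1
      change (g * k)⁻¹ * (g * y * g⁻¹) * (g * k) = k⁻¹ * y * k
      group
    exact h1 ⟨x, hx, rfl⟩
  have hNP : P = N := by
    rcases hmin (⨆ g : H, MulAut.conj g • T) hnorm (iSup_le hconjN) with h | h
    · exfalso
      apply hT1
      rw [eq_bot_iff, ← h]
      refine le_trans ?_ (le_iSup _ 1)
      rw [map_one, one_smul]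
    · apply le_antisymm hPN
      rw [← h]
      exact iSup_le hall
  have hm : 0 < m := by
    rcases Nat.eq_zero_or_pos m with rfl | h
    · exfalso
      apply hN1
      rw [← hNP, Subgroup.eq_bot_iff_forall]
      intro x hx
      have : (⟨x, hx⟩ : P) = 1 := e.injective (Subsingleton.elim _ _)
      exact congrArg Subtype.val this
    · exact h
  -- T is simple: a normal subgroup of T is N-invariant
  refine ⟨T, m, hTN, hTn, ?_, hm, ⟨(MulEquiv.subgroupCongr hNP).symm.trans e⟩⟩
  have : Nontrivial T := (Subgroup.nontrivial_iff_ne_bot T).2 hT1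
  refine ⟨fun K hK => ?_⟩
  -- every conjugate of T is T or commutes with T
  have hcases : ∀ g : H, MulAut.conj g • T = T ∨ ∀ x ∈ T, ∀ y ∈ MulAut.conj g • T, x * y = y * x := by
    intro g
    rcases hconjmin g (T ⊓ (MulAut.conj g • T)) (hTn.inf (hTn.conj hN g)) inf_le_right with h | h
    · right
      intro x hx y hy
      exact InvUnder.commute hTn (hTn.conj hN g) hTN (hconjN g) h hx hy
    · left
      have h2 : MulAut.conj g • T ≤ T := by rw [← h]; exact inf_le_left
      apply Subgroup.eq_of_le_of_card_ge h2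
      exact le_of_eq (Nat.card_congr (Subgroup.equivSMul (MulAut.conj g) T).toEquiv)
  have hnormK : (⨆ g : H, MulAut.conj g • T) ≤ Subgroup.normalizer ((K.map T.subtype : Subgroup H) : Set H) := by
    apply iSup_le
    intro g
    rcases hcases g with h | h
    · rw [h]
      intro t ht
      apply Subgroup.mem_normalizer_fintype
      rintro _ ⟨k, hk, rfl⟩
      exact ⟨⟨t, ht⟩ * k * ⟨t, ht⟩⁻¹, hK.conj_mem k hk _, rfl⟩
    · intro y hy
      apply Subgroup.mem_normalizer_fintype
      rintro _ ⟨k, hk, rfl⟩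
      refine ⟨k, hk, ?_⟩
      have := h k k.2 y hy
      rw [Subgroup.coe_subtype, ← this]
      group
  have hNall : (⨆ g : H, MulAut.conj g • T) = N := by
    apply le_antisymm (iSup_le hconjN)
    rcases hmin (⨆ g : H, MulAut.conj g • T) hnorm (iSup_le hconjN) with h | h
    · exfalso
      apply hT1
      rw [eq_bot_iff, ← h]
      refine le_trans ?_ (le_iSup _ 1)
      rw [map_one, one_smul]
    · exact h.ge
  rw [hNall] at hnormK
  have hKinv : InvUnder N (K.map T.subtype) := fun n hn k hk =>
    ((Subgroup.mem_normalizer_iff.1 (hnormK hn)) k).1 hk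
  by_cases hKb : K.map T.subtype = ⊥
  · left
    exact (Subgroup.map_eq_bot_iff_of_injective K T.subtype_injective).1 hKb
  · right
    have h1 : K.map T.subtype = T :=
      hTmin _ ⟨(Subgroup.map_subtype_le K).trans hTN, hKb, hKinv⟩ (Subgroup.map_subtype_le K)
    rw [eq_top_iff]
    intro x _
    have h2 : (x : H) ∈ K.map T.subtype := by rw [h1]; exact x.2
    obtain ⟨k, hk, hkx⟩ := h2
    rwa [show x = k from Subtype.ext hkx.symm]

/-- transport a finite group to `Type` -/
theorem exists_small_copy (T : Type u) [Group T] [Finite T] :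
    ∃ (T' : Type) (_ : Group T'), Nonempty (T ≃* T') := by
  let e : {x : Fin (Nat.card T) // True} ≃ T :=
    ((Finite.equivFin T).trans (Equiv.subtypeUnivEquiv (fun _ => trivial)).symm).symm
  let _ := e.group
  exact ⟨{x : Fin (Nat.card T) // True}, e.group, ⟨e.mulEquiv.symm⟩⟩

end

end Cfsg.Agent.H37
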