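import Mathlib
import Cfsg.Agent.BR.Final
import Cfsg.Agent.BR.Rows2
import Cfsg.Agent.CycG.PrinData

/-!
# Arithmetic of the principal block of a simple group with a Sylow subgroup of prime order
-/

set_option autoImplicit false
set_option linter.unusedSectionVars false
set_option linter.unusedVariables false

namespace Cfsg.Agent.H37.Ord

open Cfsg Subgroup Cfsg.Agent.BR
open Cfsg.Agent.CharBase (oneIrr)

universe u

structure Arith (p m n e v : ℕ) : Prop where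
  hm : m = n * (e * v)
  n_mod : n % p = 1
  n_ne : n ≠ 1
  e_dvd : e ∣ p - 1
  e_two : 2 ≤ e
  two : e = 2 → ∃ F : ℤ, F.natAbs ∣ 2 * n ∧ (1 + F).natAbs ∣ 2 * n ∧ 1 < F.natAbs ∧ 1 < (1 + F).natAbs ∧ F % p = 1
  three : e = 3 → ∃ F₁ F₂ : ℤ, F₁.natAbs ∣ 3 * n ∧ F₂.natAbs ∣ 3 * n ∧ (1 + F₁ + F₂).natAbs ∣ 3 * n ∧
    1 < F₁.natAbs ∧ 1 < F₂.natAbs ∧ 1 < (1 + F₁ + F₂).natAbs ∧ F₁ % p = 1 ∧ F₂ % p = 1

variable {G : Type u} [Group G] [Finite G] [IsSimpleGroup G]

theorem noncomm (h : ¬ (Nat.card G).Prime) : ¬ IsMulCommutative G := by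
  intro hc
  apply h
  let _ : CommGroup G := { (inferInstance : Group G) with mul_comm := fun a b => hc.is_comm.comm a b }
  exact IsSimpleGroup.prime_card

theorem arith {p m : ℕ} [hp : Fact p.Prime] (hm : Nat.card G = p * m) (hpm : ¬ p ∣ m)
    (hnp : ¬ (Nat.card G).Prime) (P : Sylow p G) :
    Sp p (P : Subgroup G) ∧ ∃ n v : ℕ, n = (normalizer ((P : Subgroup G) : Set G)).index ∧
      Nat.card (centralizer ((P : Subgroup G) : Set G)) = p * v ∧
      Arith p m n (ind (P : Subgroup G)) v := by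
  classical
  have hperf := perfect_of_simple (noncomm hnp)
  have hPc : Nat.card (P : Subgroup G) = p := by
    obtain ⟨k, hk⟩ := IsPGroup.iff_card.1 P.2
    have h1 := Subgroup.card_subgroup_dvd_card (P : Subgroup G)
    have h2 : (P : Subgroup G).index * Nat.card (P : Subgroup G) = p * m := by
      rw [Subgroup.index_mul_card, hm]
    have hk1 : k = 1 := by
      have hk2 : k < 2 := by
        by_contra h3
        have h4 : p ^ 2 ∣ p * m := by
          rw [← hm]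
          exact (pow_dvd_pow p (by omega)).trans (hk ▸ h1)
        rw [pow_two] at h4
        exact hpm (Nat.dvd_of_mul_dvd_mul_left hp.out.pos h4)
      have hk0 : k ≠ 0 := by
        rintro rfl
        rw [pow_zero] at hk
        apply P.not_dvd_index
        rw [hk, mul_one] at h2
        rw [h2]
        exact Dvd.intro _ rfl
      omega
    rw [hk, hk1, pow_one]
  have hSp : Sp p (P : Subgroup G) := Sp.of_sylow P hPc
  refine ⟨hSp, ?_⟩
  obtain ⟨B⟩ := CycG.nonempty_data hSp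
  have hPC : (P : Subgroup G) ≤ centralizer ((P : Subgroup G) : Set G) := by
    have hcyc : IsCyclic (P : Subgroup G) := isCyclic_of_prime_card hPc
    intro x hx
    rw [mem_centralizer_iff]
    intro y hy
    obtain ⟨g, hg⟩ := hcyc
    obtain ⟨i, hi⟩ := hg ⟨x, hx⟩
    obtain ⟨j, hj⟩ := hg ⟨y, hy⟩
    have h1 := (Commute.refl g).zpow_zpow j i
    have h2 : (⟨y, hy⟩ : (P : Subgroup G)) * ⟨x, hx⟩ = ⟨x, hx⟩ * ⟨y, hy⟩ := by
      rw [← hi, ← hj]
      exact h1
    exact congrArg Subtype.val h2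
  obtain ⟨v, hv⟩ : p ∣ Nat.card (centralizer ((P : Subgroup G) : Set G)) := by
    have := Subgroup.card_dvd_of_le hPC
    rwa [hPc] at this
  have hCN := centralizer_le_normalizer' (P : Subgroup G)
  have hNc : Nat.card (normalizer ((P : Subgroup G) : Set G)) = ind (P : Subgroup G) * (p * v) := by
    have h1 := Subgroup.card_mul_index ((centralizer ((P : Subgroup G) : Set G)).subgroupOf
      (normalizer ((P : Subgroup G) : Set G)))
    rw [Nat.card_congr (Subgroup.subgroupOfEquivOfLe hCN).toEquiv, hv] at h1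
    rw [← h1, mul_comm]
    rfl
  have hGc := Subgroup.index_mul_card (normalizer ((P : Subgroup G) : Set G))
  rw [hNc, hm] at hGc
  have he2 := two_le_ind hSp hperf
  have hX : ∀ χ ∈ B.X.erase (oneIrr G), χ ∈ B.X ∧ χ ≠ oneIrr G := fun χ hχ =>
    ⟨Finset.mem_of_mem_erase hχ, Finset.ne_of_mem_erase hχ⟩
  have hdeg1 : ∀ χ : IrrCharacter G, χ ≠ oneIrr G → 1 < dg χ := by
    intro χ hχ
    have h1 := dg_pos χ
    have h2 : dg χ ≠ 1 := fun h => hχ (eq_one_of_perfect hperf h)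
    omega
  have hsum : ∀ ψ ∈ B.Y, 1 + ∑ χ ∈ B.X.erase (oneIrr G), B.δ χ * (dg χ : ℤ) + B.δ₀ * (dg ψ : ℤ) = 0 := by
    intro ψ hψ
    have h1 := B.degEq hψ
    rw [← Finset.add_sum_erase _ _ B.one_mem, B.δ_one hSp] at h1
    have h2 : dg (oneIrr G) = 1 := by
      have h3 := dg_eq (oneIrr G)
      rw [CharBase.oneIrr_apply] at h3
      exact_mod_cast h3.symm
    rw [h2] at h1
    simpa using h1
  obtain ⟨ψ, hψ⟩ := B.Y_nonempty hp.out.two_le
  have hψ1 : ψ ≠ oneIrr G := by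
    rintro rfl
    exact (Finset.disjoint_left.1 B.disj) B.one_mem hψ
  have hcX : (B.X.erase (oneIrr G)).card = ind (P : Subgroup G) - 1 := by
    rw [Finset.card_erase_of_mem B.one_mem, B.cardX]
  -- signed degrees
  have hnat : ∀ χ ∈ B.X, (B.δ χ * (dg χ : ℤ)).natAbs = dg χ := by
    intro χ hχ
    rcases B.sgn χ hχ with h | h <;> rw [h] <;> simp
  have hnat0 : (B.δ₀ * (dg ψ : ℤ)).natAbs = dg ψ := by
    rcases B.sgn₀ with h | h <;> rw [h] <;> simp
  have hmodX : ∀ χ ∈ B.X, (B.δ χ * (dg χ : ℤ)) % p = 1 := by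
    intro χ hχ
    have h1 := B.congr_X hSp hχ
    have h2 : (p : ℤ) ∣ B.δ χ * (dg χ : ℤ) - 1 := by
      have h3 : B.δ χ * B.δ χ = 1 := by rcases B.sgn χ hχ with h | h <;> rw [h] <;> norm_num
      have h4 : B.δ χ * (dg χ : ℤ) - 1 = B.δ χ * ((dg χ : ℤ) - B.δ χ) := by
        rw [mul_sub, h3]
      rw [h4]
      exact dvd_mul_of_dvd_right h1 _
    obtain ⟨k, hk⟩ := h2
    rw [show B.δ χ * (dg χ : ℤ) = 1 + p * k by linear_combination hk, Int.add_mul_emod_self_left]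
    have := hp.out.two_le
    exact Int.emod_eq_of_lt (by norm_num) (by exact_mod_cast this)
  refine ⟨_, v, rfl, hv, ?_⟩
  constructor
  · have h1 : p * m = p * ((normalizer ((P : Subgroup G) : Set G)).index * (ind (P : Subgroup G) * v)) := by
      rw [← hGc]; ring
    exact Nat.eq_of_mul_eq_mul_left hp.out.pos h1
  · have h1 : Nat.card (Sylow p G) % p = 1 % p := card_sylow_modEq_one p G
    rw [hSp.card_sylow, Nat.mod_eq_of_lt hp.out.one_lt] at h1
    exact h1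
  · intro h1
    have h2 : (P : Subgroup G).Normal := by
      rw [Subgroup.index_eq_one] at h1
      exact Subgroup.normalizer_eq_top_iff.1 h1
    rcases h2.eq_bot_or_eq_top with h3 | h3
    · rw [h3, Subgroup.card_bot] at hPc
      exact hp.out.one_lt.ne hPc
    · rw [h3, Subgroup.card_top] at hPc
      exact hnp (hPc ▸ hp.out)
  · exact ⟨_, by rw [mul_comm]; exact B.cardY.symm⟩
  · exact he2
  · intro he
    rw [he] at hcX
    obtain ⟨χ, hχ⟩ := Finset.card_eq_one.1 hcX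
    have hs := hsum ψ hψ
    rw [hχ, Finset.sum_singleton] at hs
    obtain ⟨hχX, hχ1⟩ := hX χ (by rw [hχ]; exact Finset.mem_singleton_self _)
    refine ⟨B.δ χ * (dg χ : ℤ), ?_, ?_, ?_, ?_, hmodX χ hχX⟩
    · rw [hnat χ hχX, ← he]; exact B.dvd_X hSp hχX
    · have h1 : (1 + B.δ χ * (dg χ : ℤ)).natAbs = dg ψ := by
        rw [show (1 + B.δ χ * (dg χ : ℤ)) = -(B.δ₀ * (dg ψ : ℤ)) by linear_combination hs, Int.natAbs_neg, hnat0]
      rw [h1, ← he]; exact B.dvd_Y hSp hψ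
    · rw [hnat χ hχX]; exact hdeg1 χ hχ1
    · have h1 : (1 + B.δ χ * (dg χ : ℤ)).natAbs = dg ψ := by
        rw [show (1 + B.δ χ * (dg χ : ℤ)) = -(B.δ₀ * (dg ψ : ℤ)) by linear_combination hs, Int.natAbs_neg, hnat0]
      rw [h1]; exact hdeg1 ψ hψ1
  · intro he
    rw [he] at hcX
    obtain ⟨χ, χ', hne, hχ⟩ := Finset.card_eq_two.1 hcX
    have hs := hsum ψ hψ
    rw [hχ, Finset.sum_pair hne] at hs
    obtain ⟨hχX, hχ1⟩ := hX χ (by rw [hχ]; exact Finset.mem_insert_self _ _)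
    obtain ⟨hχX', hχ1'⟩ := hX χ' (by rw [hχ]; exact Finset.mem_insert_of_mem (Finset.mem_singleton_self _))
    have h1 : (1 + B.δ χ * (dg χ : ℤ) + B.δ χ' * (dg χ' : ℤ)).natAbs = dg ψ := by
      rw [show (1 + B.δ χ * (dg χ : ℤ) + B.δ χ' * (dg χ' : ℤ)) = -(B.δ₀ * (dg ψ : ℤ)) by linear_combination hs,
        Int.natAbs_neg, hnat0]
    refine ⟨B.δ χ * (dg χ : ℤ), B.δ χ' * (dg χ' : ℤ), ?_, ?_, ?_, ?_, ?_, ?_, hmodX χ hχX, hmodX χ' hχX'⟩
    · rw [hnat χ hχX, ← he]; exact B.dvd_X hSp hχX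
    · rw [hnat χ' hχX', ← he]; exact B.dvd_X hSp hχX'
    · rw [h1, ← he]; exact B.dvd_Y hSp hψ
    · rw [hnat χ hχX]; exact hdeg1 χ hχ1
    · rw [hnat χ' hχX']; exact hdeg1 χ' hχ1'
    · rw [h1]; exact hdeg1 ψ hψ1

end Cfsg.Agent.H37.Ord
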