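import Mathlib
import Cfsg.Agent.H37.OrdA
import Cfsg.Agent.S0907
import Cfsg.Agent.S0910
import Cfsg.Agent.S0165
import Cfsg.Agent.Blk.Osima
import Cfsg.Agent.Glaub.PGroup
import Cfsg.Agent.H75.Tools

/-!
# Simple groups of order `p^a q^b r`: the Sylow `r`-subgroup is self-centralising
-/

set_option autoImplicit false
set_option linter.unusedSectionVars false
set_option linter.unusedVariables false

namespace Cfsg.Agent.H37.Ord

open Cfsg Subgroup Cfsg.Agent.BR
open Cfsg.Agent.CharBase (oneIrr)
open scoped ComplexConjugate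

universe u

variable {G : Type u} [Group G] [Finite G] [IsSimpleGroup G]

/-- no element of order divisible by `l r` in a nonabelian simple group of order `l^a m^b r` -/
theorem no_elt (hna : ∃ a b : G, a * b ≠ b * a) (l m r a b : ℕ) (hl : l.Prime) (hm : m.Prime) (hr : r.Prime)
    (hlm : l ≠ m) (hlr : l ≠ r) (hmr : m ≠ r) (hcard : Nat.card G = l ^ a * m ^ b * r) (g : G)
    (hlg : l ∣ orderOf g) (hrg : r ∣ orderOf g) : False := by
  classical
  have hlF : Fact l.Prime := ⟨hl⟩
  let _ : Fintype G := Fintype.ofFinite G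
  obtain ⟨M, hM⟩ := Glaub.exists_isPModular hl
  have hMp : M.IsPrime := hM.2.1.isPrime
  have h0 := Cfsg.Agent.S0907.result (G := G) l M hM (principalBlock M G) Blk.isPBlock_principalBlock 1 g
    (by rw [orderOf_one]; exact fun h => hl.one_lt.ne' (Nat.dvd_one.1 h)) hlg
  have hfin : Finite (IrrCharacter G) := inferInstance
  let _ : Fintype (IrrCharacter G) := Fintype.ofFinite _
  rw [finsum_mem_eq_finite_toFinset_sum _ (Set.toFinite _)] at h0
  have hone : oneIrr G ∈ (Set.toFinite (principalBlock M G)).toFinset := by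
    rw [Set.Finite.mem_toFinset]
    exact Blk.oneIrr_mem_principalBlock
  rw [← Finset.add_sum_erase _ _ hone] at h0
  have h1 : (oneIrr G : G → ℂ) 1 * conj ((oneIrr G : G → ℂ) g) = 1 := by
    rw [CharBase.oneIrr_apply, CharBase.oneIrr_apply, map_one, mul_one]
  rw [h1] at h0
  -- every other term is divisible by m
  have hterm : ∀ χ ∈ (Set.toFinite (principalBlock M G)).toFinset.erase (oneIrr G),
      ∃ z : ℂ, IsIntegral ℤ z ∧ (χ : G → ℂ) 1 * conj ((χ : G → ℂ) g) = m * z := by
    intro χ hχ
    have hχ1 : χ ≠ oneIrr G := Finset.ne_of_mem_erase hχ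
    have hχB : χ ∈ principalBlock M G := by
      have := Finset.mem_of_mem_erase hχ
      rwa [Set.Finite.mem_toFinset] at this
    have hdeg := dg_eq χ
    have hint : IsIntegral ℤ (conj ((χ : G → ℂ) g)) := by
      have h2 := CharBase.irr_isIntegral χ g
      exact h2.map (starRingEnd ℂ : ℂ →+* ℂ).toIntAlgHom
    by_cases hmd : m ∣ dg χ
    · obtain ⟨k, hk⟩ := hmd
      refine ⟨k * conj ((χ : G → ℂ) g), (isIntegral_natCast k).mul hint, ?_⟩
      rw [hdeg, hk]
      push_cast
      ring
    · by_cases hrd : r ∣ dg χ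
      · -- vanishes
        have h2 : (χ : G → ℂ) g = 0 := by
          have hr2 : ¬ r ^ (1 + 1) ∣ Nat.card G := by
            rw [hcard, pow_succ, pow_one]
            intro h3
            have h4 : r ∣ l ^ a * m ^ b := Nat.dvd_of_mul_dvd_mul_right hr.pos h3
            rcases hr.dvd_mul.1 h4 with h5 | h5
            · exact hlr ((Nat.prime_dvd_prime_iff_eq hr hl).1 (hr.dvd_of_dvd_pow h5)).symm
            · exact hmr ((Nat.prime_dvd_prime_iff_eq hr hm).1 (hr.dvd_of_dvd_pow h5)).symm
          exact Char.DZ.eq_zero_of_defect_zero r 1 hr hr2 χ.2 hdeg (by rw [pow_one]; exact hrd) g hrg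
        refine ⟨0, isIntegral_zero, ?_⟩
        rw [h2, map_zero, mul_zero, mul_zero]
      · exfalso
        have hdvd : dg χ ∣ Nat.card G := by
          have := H79.irr_degree_dvd_card χ
          exact this
        rw [hcard] at hdvd
        have h2 : dg χ ∣ l ^ a := by
          have h3 : (dg χ).Coprime r := (Nat.Coprime.symm ((Nat.Prime.coprime_iff_not_dvd hr).2 hrd))
          have h4 : (dg χ).Coprime (m ^ b) := Nat.Coprime.pow_right b (Nat.Coprime.symm ((Nat.Prime.coprime_iff_not_dvd hm).2 hmd))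
          exact h4.dvd_of_dvd_mul_right (h3.dvd_of_dvd_mul_right hdvd)
        obtain ⟨k, -, hk⟩ := (Nat.dvd_prime_pow hl).1 h2
        have h3 := Cfsg.Agent.S0910.result (G := G) l M hM hna χ hχB k (by rw [hdeg, hk]; push_cast; rfl)
        apply hχ1
        apply Subtype.ext
        rw [h3]
        funext x
        exact (CharBase.oneIrr_apply x).symm
  choose! z hz1 hz2 using hterm
  rw [Finset.sum_congr rfl hz2, ← Finset.mul_sum] at h0
  have hzint : IsIntegral ℤ (∑ χ ∈ (Set.toFinite (principalBlock M G)).toFinset.erase (oneIrr G), z χ) :=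
    IsIntegral.sum _ hz1
  have h2 : IsIntegral ℤ ((1 : ℂ) / m) := by
    have hm0 : (m : ℂ) ≠ 0 := Nat.cast_ne_zero.2 hm.ne_zero
    have h3 : (1 : ℂ) / m = -(∑ χ ∈ (Set.toFinite (principalBlock M G)).toFinset.erase (oneIrr G), z χ) := by
      field_simp
      linear_combination h0
    rw [h3]
    exact hzint.neg
  have h3 : m ∣ 1 := by
    exact Char.dvd_of_isIntegral_div (a := 1) (b := m) hm.ne_zero (by rw [Nat.cast_one]; exact h2)
  exact hm.one_lt.ne' (Nat.dvd_one.1 h3)

theorem self_cent (p q r a b : ℕ) (hp : p.Prime) (hq : q.Prime) [hrF : Fact r.Prime]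
    (hpq : p ≠ q) (hpr : p ≠ r) (hqr : q ≠ r) (hcard : Nat.card G = p ^ a * q ^ b * r) (S : Sylow r G) :
    centralizer (S : Set G) = (S : Subgroup G) := by
  classical
  have hr : r.Prime := hrF.out
  have hm : ¬ r ∣ p ^ a * q ^ b := by
    intro h4
    rcases hr.dvd_mul.1 h4 with h5 | h5
    · exact hpr ((Nat.prime_dvd_prime_iff_eq hr hp).1 (hr.dvd_of_dvd_pow h5)).symm
    · exact hqr ((Nat.prime_dvd_prime_iff_eq hr hq).1 (hr.dvd_of_dvd_pow h5)).symm
  have hSc : Nat.card (S : Subgroup G) = r := by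
    obtain ⟨k, hk⟩ := IsPGroup.iff_card.1 S.2
    have h1 := Subgroup.card_subgroup_dvd_card (S : Subgroup G)
    have h2 : (S : Subgroup G).index * Nat.card (S : Subgroup G) = p ^ a * q ^ b * r := by
      rw [Subgroup.index_mul_card, hcard]
    have hk1 : k = 1 := by
      have hk2 : k < 2 := by
        by_contra h3
        have h4 : r ^ 2 ∣ p ^ a * q ^ b * r := by
          rw [← hcard]
          exact (pow_dvd_pow r (by omega)).trans (hk ▸ h1)
        rw [pow_two] at h4
        exact hm (Nat.dvd_of_mul_dvd_mul_right hr.pos h4)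
      have hk0 : k ≠ 0 := by
        rintro rfl
        rw [pow_zero] at hk
        apply S.not_dvd_index
        rw [hk, mul_one] at h2
        rw [h2]
        exact Dvd.intro_left _ rfl
      omega
    rw [hk, hk1, pow_one]
  have hSC : (S : Subgroup G) ≤ centralizer (S : Set G) := by
    have hcyc : IsCyclic (S : Subgroup G) := isCyclic_of_prime_card hSc
    intro x hx
    rw [mem_centralizer_iff]
    intro y hy
    obtain ⟨g, hg⟩ := hcyc
    obtain ⟨i, hi⟩ := hg ⟨x, hx⟩
    obtain ⟨j, hj⟩ := hg ⟨y, hy⟩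
    have h1 := (Commute.refl g).zpow_zpow j i
    have h2 : (⟨y, hy⟩ : (S : Subgroup G)) * ⟨x, hx⟩ = ⟨x, hx⟩ * ⟨y, hy⟩ := by
      rw [← hi, ← hj]
      exact h1
    exact congrArg Subtype.val h2
  by_cases hna : ∃ a b : G, a * b ≠ b * a
  · -- nonabelian
    by_contra hne
    have hlt : (S : Subgroup G) < centralizer (S : Set G) := lt_of_le_of_ne hSC (Ne.symm hne)
    obtain ⟨v, hv⟩ : Nat.card (S : Subgroup G) ∣ Nat.card (centralizer (S : Set G)) := Subgroup.card_dvd_of_le hSC
    have hv1 : v ≠ 1 := by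
      rintro rfl
      rw [mul_one] at hv
      exact hlt.ne (Subgroup.eq_of_le_of_card_ge hSC hv.le)
    obtain ⟨l, hl, hlv⟩ := Nat.exists_prime_and_dvd hv1
    have hlF : Fact l.Prime := ⟨hl⟩
    have hCG : Nat.card (centralizer (S : Set G)) ∣ Nat.card G := Subgroup.card_subgroup_dvd_card _
    rw [hv, hSc, hcard, mul_comm r v] at hCG
    have hvm : v ∣ p ^ a * q ^ b := Nat.dvd_of_mul_dvd_mul_right hr.pos hCG
    have hlm : l ∣ p ^ a * q ^ b := hlv.trans hvm
    have hlr : l ≠ r := by
      rintro rfl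
      exact hm hlm
    obtain ⟨y0, hy0⟩ := exists_prime_orderOf_dvd_card' (G := centralizer (S : Set G)) l
      (by rw [hv]; exact hlv.trans (Dvd.intro_left _ rfl))
    obtain ⟨y, hyC⟩ := y0
    have hy : orderOf y = l := (Subgroup.orderOf_coe (⟨y, hyC⟩ : centralizer (S : Set G))).trans hy0
    obtain ⟨x0, hx0⟩ := exists_prime_orderOf_dvd_card' (G := (S : Subgroup G)) r (by rw [hSc])
    obtain ⟨x, hxS⟩ := x0
    have hx : orderOf x = r := (Subgroup.orderOf_coe (⟨x, hxS⟩ : (S : Subgroup G))).trans hx0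
    have hxy : Commute x y := (mem_centralizer_iff.1 hyC) x hxS
    have hord : orderOf (x * y) = r * l := by
      have := hxy.orderOf_mul_eq_mul_orderOf_of_coprime (by
        rw [hx, hy]
        exact (Nat.coprime_primes hr hl).2 hlr.symm)
      rw [this, hx, hy]
    rcases hl.dvd_mul.1 hlm with h5 | h5
    · have hlp : l = p := (Nat.prime_dvd_prime_iff_eq hl hp).1 (hl.dvd_of_dvd_pow h5)
      subst hlp
      exact no_elt hna l q r a b hl hq hr hpq hpr hqr hcard (x * y) (by rw [hord]; exact Dvd.intro_left _ rfl)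
        (by rw [hord]; exact Dvd.intro _ rfl)
    · have hlq : l = q := (Nat.prime_dvd_prime_iff_eq hl hq).1 (hl.dvd_of_dvd_pow h5)
      subst hlq
      exact no_elt hna l p r b a hl hp hr hpq.symm hqr hpr (by rw [hcard]; ring) (x * y)
        (by rw [hord]; exact Dvd.intro_left _ rfl) (by rw [hord]; exact Dvd.intro _ rfl)
  · -- abelian
    push Not at hna
    let _ : CommGroup G := { (inferInstance : Group G) with mul_comm := hna }
    have h1 : (Nat.card G).Prime := IsSimpleGroup.prime_card
    have h2 : r ∣ Nat.card G := by rw [hcard]; exact Dvd.intro_left _ rfl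
    have h3 : r = Nat.card G := (Nat.prime_dvd_prime_iff_eq hr h1).1 h2
    have h4 : (S : Subgroup G) = ⊤ := Subgroup.eq_top_of_card_eq _ (by rw [hSc, h3])
    apply le_antisymm _ hSC
    rw [h4]
    exact le_top

end Cfsg.Agent.H37.Ord
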