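import Mathlib
import Cfsg.Agent.H37.OrdB

/-!
# Arithmetic of simple groups of order `p^a q^b r`
-/

set_option autoImplicit false
set_option linter.unusedSectionVars false
set_option linter.unusedVariables false

namespace Cfsg.Agent.H37.Ord

open Cfsg Subgroup Cfsg.Agent.BR
open Cfsg.Agent.CharBase (oneIrr)

universe u

variable {G : Type u} [Group G] [Finite G] [IsSimpleGroup G]

theorem arith_one (p q r a b : ℕ) (hp : p.Prime) (hq : q.Prime) [hrF : Fact r.Prime]
    (hpq : p ≠ q) (hpr : p ≠ r) (hqr : q ≠ r) (hcard : Nat.card G = p ^ a * q ^ b * r)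
    (hnp : ¬ (Nat.card G).Prime) (S : Sylow r G) :
    Sp r (S : Subgroup G) ∧ centralizer ((S : Subgroup G) : Set G) = (S : Subgroup G) ∧
      ∃ n : ℕ, n = (normalizer ((S : Subgroup G) : Set G)).index ∧
        Arith r (p ^ a * q ^ b) n (ind (S : Subgroup G)) 1 := by
  have hr : r.Prime := hrF.out
  have hm : ¬ r ∣ p ^ a * q ^ b := by
    intro h4
    rcases hr.dvd_mul.1 h4 with h5 | h5
    · exact hpr ((Nat.prime_dvd_prime_iff_eq hr hp).1 (hr.dvd_of_dvd_pow h5)).symm
    · exact hqr ((Nat.prime_dvd_prime_iff_eq hr hq).1 (hr.dvd_of_dvd_pow h5)).symm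
  have h1 : centralizer ((S : Subgroup G) : Set G) = (S : Subgroup G) := self_cent p q r a b hp hq hpq hpr hqr hcard S
  obtain ⟨h2, n, v, h3, h4, h5⟩ := arith (G := G) (p := r) (m := p ^ a * q ^ b) (by rw [hcard, mul_comm]) hm hnp S
  refine ⟨h2, h1, n, h3, ?_⟩
  have h6 : Nat.card (centralizer ((S : Subgroup G) : Set G)) = Nat.card (S : Subgroup G) := by rw [h1]
  have h7 : Nat.card (S : Subgroup G) = r := h2.card
  rw [h6, h7] at h4
  have hv : v = 1 := by
    have : r * v = r * 1 := by rw [← h4, mul_one]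
    exact Nat.eq_of_mul_eq_mul_left hr.pos this
  rwa [hv] at h5

end Cfsg.Agent.H37.Ord
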