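import Mathlib
import Cfsg.Agent.H37.OrdA
import Cfsg.Agent.S4700
import Cfsg.Agent.S1494
import Cfsg.Agent.S1495
import Cfsg.Agent.SigF.Coprime
import Cfsg.Agent.H65.SylowNum
import Cfsg.Agent.H73.SylCount
import Cfsg.Agent.H14.SubField
import Cfsg.Agent.H4.KleinBlock

/-!
# Tools for the orders with a Sylow subgroup of prime order and nontrivial `O_{p'}(C(P))`
-/

set_option autoImplicit false
set_option linter.unusedSectionVars false
set_option linter.unusedVariables false

namespace Cfsg.Agent.H37.Ord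

open Cfsg Subgroup Cfsg.Agent.BR
open Cfsg.Agent.CharBase (oneIrr)
open scoped ComplexConjugate

universe u

section Grp

variable {G : Type u} [Group G] [Finite G]

/-- a `p`-group `A` acting on `Q`: `|C_Q(A)| ≡ |Q|` mod `p`. -/
theorem card_inf_centralizer_mod {p : ℕ} [hp : Fact p.Prime] {A Q : Subgroup G} (hA : IsPGroup p A)
    (hAQ : A ≤ normalizer (Q : Set G)) :
    Nat.card (Q ⊓ centralizer (A : Set G) : Subgroup G) ≡ Nat.card Q [MOD p] := by
  classical
  let _ : MulAction A Q :=
    { smul := fun a x => ⟨(a : G) * x * (a : G)⁻¹, (mem_normalizer_iff.1 (hAQ a.2) x).1 x.2⟩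
      one_smul := fun x => Subtype.ext (by change (1 : G) * x * (1 : G)⁻¹ = x; group)
      mul_smul := fun a b x => Subtype.ext (by
        change ((a : G) * b) * x * ((a : G) * b)⁻¹ = a * (b * x * (b : G)⁻¹) * (a : G)⁻¹
        group) }
  have h1 := hA.card_modEq_card_fixedPoints Q
  have h2 : Nat.card (MulAction.fixedPoints A Q) = Nat.card (Q ⊓ centralizer (A : Set G) : Subgroup G) := by
    apply Nat.card_congr
    refine ⟨fun x => ⟨(x : Q), (x : Q).2, ?_⟩, fun y => ⟨⟨y, y.2.1⟩, ?_⟩, fun x => rfl, fun y => rfl⟩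
    · change ((x : Q) : G) ∈ centralizer (A : Set G)
      rw [mem_centralizer_iff]
      intro a ha
      have h3 : (⟨a, ha⟩ : A) • (x : Q) = x := x.2 ⟨a, ha⟩
      have h4 : a * ((x : Q) : G) * a⁻¹ = ((x : Q) : G) := congrArg Subtype.val h3
      calc a * ((x : Q) : G) = (a * ((x : Q) : G) * a⁻¹) * a := by group
        _ = _ := by rw [h4]
    · intro a
      apply Subtype.ext
      change (a : G) * y * (a : G)⁻¹ = y
      have h3 := (mem_centralizer_iff.1 y.2.2) a a.2
      rw [h3]; group
  rw [h2] at h1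
  exact h1.symm

/-- a `p`-group acting on a small `p'`-group centralises it. -/
theorem le_centralizer_of_small {p : ℕ} [hp : Fact p.Prime] {A K : Subgroup G} (hA : IsPGroup p A)
    (hK : ¬ p ∣ Nat.card K) (hAK : A ≤ normalizer (K : Set G))
    (hs : ∀ q i j : ℕ, q.Prime → q ^ i ∣ Nat.card K → j < i → ¬ q ^ j ≡ q ^ i [MOD p]) :
    K ≤ centralizer (A : Set G) := by
  classical
  rw [← inf_eq_left]
  apply Subgroup.eq_of_le_of_card_ge inf_le_left
  have h1 : (K ⊓ centralizer (A : Set G)).relIndex K = 1 := by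
    by_contra hne
    obtain ⟨q, hq, hqd⟩ := Nat.exists_prime_and_dvd hne
    have hqF : Fact q.Prime := ⟨hq⟩
    obtain ⟨Q, hQ, hAQ⟩ := SigF.exists_inv_isSyl hA hK hAK q
    have h2 := card_inf_centralizer_mod hA hAQ
    obtain ⟨i, hi⟩ := IsPGroup.iff_card.1 hQ.isPGroup
    have h3 : Nat.card (Q ⊓ centralizer (A : Set G) : Subgroup G) ∣ Nat.card Q :=
      Subgroup.card_dvd_of_le inf_le_left
    rw [hi] at h3 h2
    obtain ⟨j, hj, hj2⟩ := (Nat.dvd_prime_pow hq).1 h3
    rw [hj2] at h2
    have h4 : j = i := by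
      rcases Nat.lt_or_ge j i with h5 | h5
      · exfalso
        refine hs q i j hq ?_ h5 h2
        rw [← hi]
        exact Subgroup.card_dvd_of_le hQ.le
      · omega
    have h6 : Q ⊓ centralizer (A : Set G) = Q := by
      apply Subgroup.eq_of_le_of_card_ge inf_le_left
      rw [hj2, hi, h4]
    have h7 : Q ≤ K ⊓ centralizer (A : Set G) := by
      rw [inf_eq_left] at h6
      exact le_inf hQ.le h6
    have h8 : (K ⊓ centralizer (A : Set G)).relIndex K ∣ Q.relIndex K :=
      Subgroup.relIndex_dvd_of_le_left K h7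
    exact hQ.not_dvd_relIndex (hqd.trans h8)
  rw [Subgroup.relIndex_eq_one] at h1
  exact Subgroup.card_le_of_le h1

theorem centralizer_of_card_dvd {A K : Subgroup G} (hA : IsPGroup 19 A) (hK : Nat.card K ∣ 24192)
    (hAK : A ≤ normalizer (K : Set G)) : K ≤ centralizer (A : Set G) := by
  have : Fact (Nat.Prime 19) := ⟨by norm_num⟩
  apply le_centralizer_of_small hA (fun h => absurd (h.trans hK) (by norm_num)) hAK
  intro q i j hq hqi hji hmod
  have h1 := hqi.trans hK
  have hi0 : i ≠ 0 := by omega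
  have h2 : q ∣ 2 ^ 7 * 3 ^ 3 * 7 := by
    have := (dvd_pow_self q hi0).trans h1
    norm_num at this ⊢
    exact this
  have h3 : q = 2 ∨ q = 3 ∨ q = 7 := by
    rcases hq.dvd_mul.1 h2 with h4 | h4
    · rcases hq.dvd_mul.1 h4 with h5 | h5
      · exact Or.inl ((Nat.prime_dvd_prime_iff_eq hq Nat.prime_two).1 (hq.dvd_of_dvd_pow h5))
      · exact Or.inr (Or.inl ((Nat.prime_dvd_prime_iff_eq hq Nat.prime_three).1 (hq.dvd_of_dvd_pow h5)))
    · exact Or.inr (Or.inr ((Nat.prime_dvd_prime_iff_eq hq (by norm_num)).1 h4))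
  rcases h3 with rfl | rfl | rfl
  · have hi : i < 8 := by
      by_contra hc
      have h5 : 2 ^ 8 ∣ 24192 := (pow_dvd_pow 2 (by omega)).trans h1
      norm_num at h5
    unfold Nat.ModEq at hmod
    interval_cases i <;> interval_cases j <;> norm_num at hmod
  · have hi : i < 4 := by
      by_contra hc
      have h5 : 3 ^ 4 ∣ 24192 := (pow_dvd_pow 3 (by omega)).trans h1
      norm_num at h5
    unfold Nat.ModEq at hmod
    interval_cases i <;> interval_cases j <;> norm_num at hmod
  · have hi : i < 2 := by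
      by_contra hc
      have h5 : 7 ^ 2 ∣ 24192 := (pow_dvd_pow 7 (by omega)).trans h1
      norm_num at h5
    unfold Nat.ModEq at hmod
    interval_cases i <;> interval_cases j <;> norm_num at hmod

theorem no_perfect_96 (hperf : commutator G = ⊤) (P : Sylow 19 G) (hP : Nat.card P = 19)
    (hG : Nat.card G ∣ 459648) : Nat.card (Sylow 19 G) ≠ 96 := by
  have : Fact (Nat.Prime 19) := ⟨by norm_num⟩
  intro h96
  rcases Cfsg.Agent.S4700.result hperf 19 P hP 5 (by rw [h96]) with ⟨F, _, _, hF, -, ⟨e⟩⟩ | ⟨m, F, _, _, hF, h1, -⟩ |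
    ⟨h, u, hh, hu, h1⟩
  · have h2 := H14.SubField.card_PSL2_odd (F := F) (by rw [hF]; decide)
    rw [hF] at h2
    have h3 : Nat.card (Matrix.ProjectiveSpecialLinearGroup (Fin 2) F) ∣ Nat.card G := by
      rw [← Nat.card_congr e.toEquiv]
      exact Subgroup.card_quotient_dvd_card _
    have h4 : Nat.card (Matrix.ProjectiveSpecialLinearGroup (Fin 2) F) = 3420 := by omega
    rw [h4] at h3
    have h5 := h3.trans hG
    norm_num at h5
  · have h2 : 2 ^ m = 18 := by omega
    have h3 : m < 5 := by
      by_contra hc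
      have : 2 ^ 5 ≤ 2 ^ m := Nat.pow_le_pow_right (by norm_num) (by omega)
      omega
    interval_cases m <;> omega
  · have h2 : u ≤ h * u := Nat.le_mul_of_pos_left u hh
    nlinarith

theorem card_sylow_19 (h : Nat.card G ∣ 459648) (hn : Nat.card (Sylow 19 G) ≠ 1) (P : Sylow 19 G) :
    Nat.card P = 19 := by
  have : Fact (Nat.Prime 19) := ⟨by norm_num⟩
  obtain ⟨k, hk⟩ := IsPGroup.iff_card.1 P.2
  have h1 := (Subgroup.card_subgroup_dvd_card (P : Subgroup G)).trans h
  rw [hk] at h1
  have hk2 : k < 2 := by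
    by_contra h3
    have h4 : 19 ^ 2 ∣ 459648 := (pow_dvd_pow 19 (by omega)).trans h1
    norm_num at h4
  have hk0 : k ≠ 0 := by
    rintro rfl
    apply hn
    rw [P.card_eq_index_normalizer, Subgroup.index_eq_one]
    have h5 : (P : Subgroup G) = ⊥ := Subgroup.eq_bot_of_card_eq _ (by rw [hk, pow_zero])
    exact Subgroup.normalizer_eq_top_iff.2 (h5 ▸ inferInstance)
  have : k = 1 := by omega
  rw [hk, this, pow_one]

theorem no_96 : ∀ (N : ℕ) (G : Type u) [Group G] [Finite G], Nat.card G = N → Nat.card G ∣ 459648 →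
    Nat.card (Sylow 19 G) ≠ 96 := by
  intro N
  induction N using Nat.strong_induction_on with
  | _ N ih =>
  intro G _ _ hN hG h96
  have : Fact (Nat.Prime 19) := ⟨by norm_num⟩
  obtain ⟨P⟩ : Nonempty (Sylow 19 G) := inferInstance
  have hP := card_sylow_19 hG (by rw [h96]; norm_num) P
  by_cases hperf : commutator G = ⊤
  · exact no_perfect_96 hperf P hP hG h96
  have hlt : Nat.card (commutator G) < Nat.card G := by
    refine lt_of_le_of_ne (Subgroup.card_le_card_group _) (fun h => hperf (Subgroup.eq_top_of_card_eq _ h))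
  by_cases hd : 19 ∣ (commutator G).index
  · have h1 : Nat.card (commutator G) ∣ 24192 := by
      obtain ⟨k, hk⟩ := hd
      have h2 := Subgroup.card_mul_index (commutator G)
      rw [hk] at h2
      rw [← h2] at hG
      have h3 : 19 * (Nat.card (commutator G) * k) ∣ 19 * 24192 := by
        rw [show 19 * (Nat.card (commutator G) * k) = Nat.card (commutator G) * (19 * k) by ring]
        exact hG
      exact (Dvd.intro _ rfl).trans (Nat.dvd_of_mul_dvd_mul_left (by norm_num) h3)
    have h2 : commutator G ≤ centralizer ((P : Subgroup G) : Set G) := by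
      apply centralizer_of_card_dvd P.2 h1
      rw [Subgroup.normalizer_eq_top_iff.2 inferInstance]
      exact le_top
    have h3 : commutator G ⊔ (P : Subgroup G) ≤ normalizer ((P : Subgroup G) : Set G) :=
      sup_le (h2.trans (Subgroup.centralizer_le_normalizer _)) le_normalizer
    have h4 : (commutator G ⊔ (P : Subgroup G)).Normal := by
      constructor
      intro n hn g
      have h5 : g * n * g⁻¹ * n⁻¹ ∈ commutator G := Subgroup.commutator_mem_commutator (mem_top g) (mem_top n)
      have h6 : g * n * g⁻¹ = (g * n * g⁻¹ * n⁻¹) * n := by group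
      rw [h6]
      exact mul_mem (le_sup_left (a := commutator G) (b := (P : Subgroup G)) h5) hn
    have h5 := H65.SylowNum.card_sylow_of_normal_ge P (T := commutator G ⊔ (P : Subgroup G)) le_sup_right
    rw [H65.SylowNum.card_sylow_subgroup P le_sup_right, Subgroup.relIndex_eq_one.2 h3, h96] at h5
    norm_num at h5
  · have h1 := H73.SylCount.card_sylow_eq_of_coprime_index (commutator G) hd
    exact ih _ (hN ▸ hlt) (commutator G) rfl ((Subgroup.card_subgroup_dvd_card _).trans hG) (h1.trans h96)

/-- the Sylow orbit lemma. -/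
theorem cover {p : ℕ} [hp : Fact p.Prime] (P : Sylow p G) (K : Subgroup G)
    (h : (normalizer ((P : Subgroup G) : Set G)).relIndex K = (normalizer ((P : Subgroup G) : Set G)).index)
    (g : G) : ∃ k ∈ K, ∃ h ∈ normalizer ((P : Subgroup G) : Set G), g = k * h := by
  classical
  have h1 := MulAction.index_stabilizer K P
  have h2 : (MulAction.stabilizer K P).index = Nat.card (Sylow p G) := by
    have e : MulAction.stabilizer K P = (normalizer ((P : Subgroup G) : Set G)).subgroupOf K := by
      ext k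
      rw [mem_subgroupOf, MulAction.mem_stabilizer_iff]
      have h6 : (k : G) ∈ MulAction.stabilizer G P ↔ (k : G) ∈ normalizer ((P : Subgroup G) : Set G) := by
        rw [Sylow.stabilizer_eq_normalizer]; rfl
      rw [← h6]; rfl
    rw [P.card_eq_index_normalizer, e]
    exact h
  rw [h2] at h1
  have h3 : MulAction.orbit K P = Set.univ := by
    rw [Set.eq_univ_iff_ncard, ← h1]
  have h4 : g • P ∈ MulAction.orbit K P := by rw [h3]; exact Set.mem_univ _
  obtain ⟨k, hk⟩ := h4
  have h5 : (k : G) • P = g • P := hk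
  refine ⟨k, k.2, (k : G)⁻¹ * g, ?_, by group⟩
  have h6 : (k : G)⁻¹ * g ∈ MulAction.stabilizer G P := by
    rw [MulAction.mem_stabilizer_iff, mul_smul, ← h5, inv_smul_smul]
  rw [Sylow.stabilizer_eq_normalizer] at h6
  exact h6

end Grp

end Cfsg.Agent.H37.Ord
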