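import Mathlib
import Cfsg.Agent.H37.OrdD
import Cfsg.Agent.H75.Tools

/-!
# Values of the principal block characters at an involution centralising `P`
-/

set_option autoImplicit false
set_option linter.unusedSectionVars false
set_option linter.unusedVariables false

namespace Cfsg.Agent.H37.Ord

open Cfsg Subgroup Cfsg.Agent.BR
open Cfsg.Agent.CharBase (oneIrr)
open scoped ComplexConjugate

universe u

variable {G : Type u} [Group G] [Finite G]

/-- A nontrivial irreducible character of a simple group is faithful. -/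
theorem eq_one_of_ker [IsSimpleGroup G] (χ : IrrCharacter G) {g : G} (hg : g ≠ 1)
    (h : (χ : G → ℂ) g = (χ : G → ℂ) 1) : χ = CharBase.oneIrr G := by
  classical
  have := Fintype.ofFinite G
  have hχ := CharBase.isCharacter_of_isIrr χ.2
  have hN := H75.charKer_normal hχ
  rcases hN.eq_bot_or_eq_top with h1 | h1
  · exfalso
    apply hg
    have : g ∈ H75.charKer hχ := h
    rwa [h1, mem_bot] at this
  · by_contra hne
    have h2 := CharBase.classInner_irr_of_ne hne
    have h3 : (χ : G → ℂ) = (χ : G → ℂ) 1 • (CharBase.oneIrr G : G → ℂ) := by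
      funext x
      have : x ∈ H75.charKer hχ := by rw [h1]; exact mem_top x
      rw [Pi.smul_apply, CharBase.oneIrr_apply, smul_eq_mul, mul_one]
      exact this
    rw [h3, CharBase.classInner_smul_left, CharBase.classInner_irr_self, mul_one] at h2
    exact CharBase.irr_one_ne_zero χ.2 h2

/-- partial column sums at an element where the values are integers. -/
theorem sum_sq_le (t : G) (S : Finset (IrrCharacter G)) (a : IrrCharacter G → ℤ)
    (ha : ∀ χ ∈ S, (χ : G → ℂ) t = a χ) :
    ∑ χ ∈ S, (a χ) ^ 2 ≤ (Nat.card (centralizer ({t} : Set G)) : ℤ) := by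
  classical
  have : Fintype (IrrCharacter G) := Fintype.ofFinite _
  have h1 := CharBase.column_orthogonality_of_isConj (G := G) (IsConj.refl t)
  have h2 : ∑ χ : IrrCharacter G, ‖(χ : G → ℂ) t‖ ^ 2 = (Nat.card (centralizer ({t} : Set G)) : ℝ) := by
    have h3 : ((∑ χ : IrrCharacter G, ‖(χ : G → ℂ) t‖ ^ 2 : ℝ) : ℂ) =
        ((Nat.card (centralizer ({t} : Set G)) : ℝ) : ℂ) := by
      push_cast
      rw [← h1]
      refine Finset.sum_congr rfl fun χ _ => ?_
      rw [Complex.mul_conj, Complex.normSq_eq_norm_sq]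
      push_cast
      rfl
    exact_mod_cast h3
  have h4 : ((∑ χ ∈ S, (a χ) ^ 2 : ℤ) : ℝ) ≤ (Nat.card (centralizer ({t} : Set G)) : ℝ) := by
    rw [← h2]
    push_cast
    calc ∑ χ ∈ S, ((a χ : ℤ) : ℝ) ^ 2 = ∑ χ ∈ S, ‖(χ : G → ℂ) t‖ ^ 2 := by
          refine Finset.sum_congr rfl fun χ hχ => ?_
          rw [ha χ hχ, Complex.norm_intCast, sq_abs]
      _ ≤ _ := Finset.sum_le_sum_of_subset_of_nonneg (Finset.subset_univ _) (fun _ _ _ => by positivity)
  exact_mod_cast h4

/-- values at an involution `t` centralising `P`. -/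
theorem exists_val {p : ℕ} [hp : Fact p.Prime] {P : Subgroup G} (hP : Sp p P) (B : Data p P) (hp2 : p ≠ 2)
    {t : G} (ht : orderOf t = 2) (htC : t ∈ centralizer (P : Set G)) (χ : IrrCharacter G) :
    ∃ a : ℤ, (χ : G → ℂ) t = a ∧ (χ ∈ B.X → (p : ℤ) ∣ B.δ χ - a) ∧ (2 : ℤ) ∣ a - dg χ ∧ |a| ≤ dg χ := by
  have hχc := CharBase.irr_isCharacter χ
  have htt : t * t = 1 := by rw [← pow_two, ← ht]; exact pow_orderOf_eq_one t
  obtain ⟨a, ha⟩ := H4.exists_int_value hχc htt
  have hgen : IsGeneralizedCharacter G (χ : G → ℂ) := by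
    exact ⟨_, 0, hχc, CharBase.isCharacter_zero, (sub_zero _).symm⟩
  refine ⟨a, ha, ?_, ?_, ?_⟩
  · intro hχ
    obtain ⟨x, hx, hx1⟩ := exists_ne_one hP
    have hxo : orderOf x = p := Sp.orderOf_eq hP hx hx1
    have hxt : x * t = t * x := (mem_centralizer_iff.1 htC) x hx
    obtain ⟨ω, hω, h1⟩ := Cfsg.Agent.S1494.result (χ : G → ℂ) hgen p hp.out x t hxo hxt
    rw [B.val χ hχ x hx hx1 t htC (by
      rw [ht]
      exact fun h => hp2 ((Nat.prime_dvd_prime_iff_eq hp.out Nat.prime_two).1 h)), ha] at h1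
    apply Cfsg.Agent.S1495.result p hp.out _ ω hω
    rw [← h1]
    push_cast
    rfl
  · obtain ⟨ω, hω, h1⟩ := Cfsg.Agent.S1494.result (χ : G → ℂ) hgen 2 Nat.prime_two t 1 ht (by rw [mul_one, one_mul])
    rw [mul_one, ha, dg_eq] at h1
    apply Cfsg.Agent.S1495.result 2 Nat.prime_two _ ω hω
    rw [← h1]
    push_cast
    rfl
  · obtain ⟨n, h1, h2⟩ := CharBase.norm_le_of_isCharacter hχc t
    rw [ha, Complex.norm_intCast] at h2
    have h3 : (n : ℂ) = dg χ := by rw [← h1, dg_eq]
    have h4 : n = dg χ := by exact_mod_cast h3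
    rw [h4] at h2
    exact_mod_cast h2

end Cfsg.Agent.H37.Ord
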