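import Cfsg.Agent.BT.E2
import Cfsg.Agent.H37.OrdE

/-!
Inertial index two: the involution counting formula.
-/

set_option autoImplicit false

open scoped ComplexConjugate

namespace Cfsg.Agent.H37.Ord

open Cfsg Subgroup Cfsg.Agent.BR Cfsg.Agent.BT
open Cfsg.Agent.CharBase (oneIrr)

universe u

/-- self-centralizing Sylow subgroup of order `p` and inertial index two -/
structure Two {G : Type u} [Group G] [Finite G] (p : ℕ) (P : Subgroup G) where
  st : Ex p P
  he : ind P = 2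

variable {G : Type u} [Group G] [Fintype G] {p : ℕ} [hp : Fact p.Prime] {P : Subgroup G}
  (d : Two p P)

include d

theorem Two.card_quot : (P.subgroupOf (normalizer (P : Set G))).index = 2 := by
  have h := d.he
  unfold ind Subgroup.relIndex at h
  rwa [d.st.hC] at h

/-- the product of two elements of `N ∖ P` is in `P`. -/
theorem Two.mul_mem {y z : G} (hy : y ∈ normalizer (P : Set G)) (hyP : y ∉ P)
    (hz : z ∈ normalizer (P : Set G)) (hzP : z ∉ P) : y * z ∈ P := by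
  have h := Subgroup.mul_mem_iff_of_index_two d.card_quot (a := ⟨y, hy⟩) (b := ⟨z, hz⟩)
  rw [Subgroup.mem_subgroupOf, Subgroup.mem_subgroupOf, Subgroup.mem_subgroupOf] at h
  exact h.mpr ⟨fun h => absurd h hyP, fun h => absurd h hzP⟩

theorem Two.exists_τ : ∃ τ ∈ normalizer (P : Set G), τ ∉ P := by
  by_contra hcon
  push Not at hcon
  have h1 : P.subgroupOf (normalizer (P : Set G)) = ⊤ := by
    rw [Subgroup.subgroupOf_eq_top]
    exact hcon
  have h2 := d.card_quot
  rw [h1, Subgroup.index_top] at h2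
  omega

theorem Two.inv_of {τ : G} (hτ : τ ∈ normalizer (P : Set G)) (hτP : τ ∉ P) : τ * τ = 1 := by
  by_contra h
  exact hτP (mem_P_of_comm d.st.hP d.st.hC (d.mul_mem hτ hτP hτ hτP) h (by group))

theorem Two.orderOf_τ {τ : G} (hτ : τ ∈ normalizer (P : Set G)) (hτP : τ ∉ P) :
    orderOf τ = 2 := by
  apply orderOf_eq_prime
  · rw [pow_two]; exact d.inv_of hτ hτP
  · rintro rfl
    exact hτP P.one_mem

/-- elements of `N ∖ P` invert `P`. -/
theorem Two.invert {τ : G} (hτ : τ ∈ normalizer (P : Set G)) (hτP : τ ∉ P) {x : G} (hx : x ∈ P) :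
    τ * x * τ⁻¹ = x⁻¹ := by
  have h1 := d.inv_of hτ hτP
  have h2 : τ⁻¹ = τ := inv_eq_of_mul_eq_one_right h1
  have h3 : τ * x ∉ P := by
    intro h
    apply hτP
    have : τ = (τ * x) * x⁻¹ := by group
    rw [this]
    exact P.mul_mem h (P.inv_mem hx)
  have h4 := d.inv_of (Subgroup.mul_mem _ hτ (Subgroup.le_normalizer hx)) h3
  rw [h2]
  apply eq_inv_of_mul_eq_one_left
  rw [← h4]; group

/-- elements of `N ∖ P` are conjugate. -/
theorem Two.conj_of {y z : G} (hy : y ∈ normalizer (P : Set G)) (hyP : y ∉ P)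
    (hz : z ∈ normalizer (P : Set G)) (hzP : z ∉ P) : IsConj y z := by
  obtain ⟨x, -, hx⟩ := coset_conj d.st.hP d.st.hC hy hyP (z := z) (by
    have h1 : y⁻¹ = y := inv_eq_of_mul_eq_one_right (d.inv_of hy hyP)
    rw [h1]
    exact d.mul_mem hz hzP hy hyP)
  rw [isConj_iff]
  exact ⟨x, hx.symm⟩

/-- an element inverting a nontrivial element of `P` is in `N ∖ P`. -/
theorem Two.mem_of_invert {g x : G} (hx : x ∈ P) (hx1 : x ≠ 1) (h : g * x * g⁻¹ = x⁻¹) :
    g ∈ normalizer (P : Set G) ∧ g ∉ P := by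
  constructor
  · rw [← inv_mem_iff, ← d.st.hP.conj_iff hx hx1, inv_inv, h]
    exact P.inv_mem hx
  · intro hg
    rw [d.st.P_comm g hg x hx, mul_inv_cancel_right] at h
    have h2 : x ^ 2 = 1 := by
      rw [sq]; nth_rewrite 2 [h]; exact mul_inv_cancel x
    have h3 := orderOf_dvd_of_pow_eq_one h2
    rw [d.st.hP.orderOf_eq hx hx1] at h3
    have := Nat.le_of_dvd (by norm_num) h3
    have := d.st.hp3
    omega

/-- Number of pairs of conjugates of an involution with a given product in `P`. -/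
theorem Two.count [DecidableEq G] {τ t x : G} (hτ : τ ∈ normalizer (P : Set G)) (hτP : τ ∉ P) (ht : t * t = 1)
    (hx : x ∈ P) (hx1 : x ≠ 1) :
    (¬ IsConj t τ → ((Finset.univ : Finset (G × G)).filter
      (fun q => q.1 * t * q.1⁻¹ * (q.2 * t * q.2⁻¹) = x)).card = 0) ∧
    (IsConj t τ → ((Finset.univ : Finset (G × G)).filter
      (fun q => q.1 * t * q.1⁻¹ * (q.2 * t * q.2⁻¹) = x)).card = p * (Nat.card (centralizer ({t} : Set G)) ^ 2)) := by
  classical
  have hmem : ∀ q : G × G, q.1 * t * q.1⁻¹ * (q.2 * t * q.2⁻¹) = x →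
      q.1 * t * q.1⁻¹ ∈ normalizer (P : Set G) ∧ q.1 * t * q.1⁻¹ ∉ P := by
    intro q hq
    have hu : (q.1 * t * q.1⁻¹) * (q.1 * t * q.1⁻¹) = 1 := by
      calc (q.1 * t * q.1⁻¹) * (q.1 * t * q.1⁻¹) = q.1 * (t * t) * q.1⁻¹ := by group
        _ = 1 := by rw [ht]; group
    have hv : (q.2 * t * q.2⁻¹) * (q.2 * t * q.2⁻¹) = 1 := by
      calc (q.2 * t * q.2⁻¹) * (q.2 * t * q.2⁻¹) = q.2 * (t * t) * q.2⁻¹ := by group
        _ = 1 := by rw [ht]; group
    apply d.mem_of_invert hx hx1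
    generalize q.1 * t * q.1⁻¹ = u at *
    generalize q.2 * t * q.2⁻¹ = v at *
    have hu' : u⁻¹ = u := inv_eq_of_mul_eq_one_right hu
    have hv' : v⁻¹ = v := inv_eq_of_mul_eq_one_right hv
    rw [← hq, mul_inv_rev, hu', hv']
    calc u * (u * v) * u = (u * u) * v * u := by group
      _ = v * u := by rw [hu, one_mul]
  constructor
  · intro hnc
    rw [Finset.card_eq_zero, Finset.filter_eq_empty_iff]
    intro q _ hq
    obtain ⟨h1, h2⟩ := hmem q hq
    apply hnc
    exact IsConj.trans (isConj_iff.mpr ⟨q.1, rfl⟩) (d.conj_of h1 h2 hτ hτP)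
  · intro hc
    let NP : Finset G := Finset.univ.filter (fun u => u ∈ normalizer (P : Set G) ∧ u ∉ P)
    have hNPcard : NP.card = p := by
      have h1 : Nat.card (normalizer (P : Set G)) = p * 2 := by rw [d.st.card_N, d.he]
      have h2 : Nat.card P = p := d.st.hP.card
      have e1 : (Finset.univ.filter (fun u => u ∈ normalizer (P : Set G))).card = p * 2 := by
        rw [← h1, Nat.card_eq_fintype_card, Fintype.card_subtype]
      have e2 : (Finset.univ.filter (fun u => u ∈ P)).card = p := by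
        rw [← h2, Nat.card_eq_fintype_card, Fintype.card_subtype]
      have e3 : NP = (Finset.univ.filter (fun u => u ∈ normalizer (P : Set G))) \
          (Finset.univ.filter (fun u => u ∈ P)) := by
        ext u
        simp [NP]
      rw [e3, Finset.card_sdiff_of_subset, e1, e2]
      · omega
      · intro u hu
        rw [Finset.mem_filter] at hu ⊢
        exact ⟨hu.1, Subgroup.le_normalizer hu.2⟩
    rw [Finset.card_eq_sum_card_fiberwise (f := fun q : G × G => q.1 * t * q.1⁻¹) (t := NP)]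
    · have hfib : ∀ u ∈ NP, (((Finset.univ : Finset (G × G)).filter
          (fun q => q.1 * t * q.1⁻¹ * (q.2 * t * q.2⁻¹) = x)).filter
            (fun q => q.1 * t * q.1⁻¹ = u)).card = Nat.card (centralizer ({t} : Set G)) ^ 2 := by
        intro u hu
        rw [Finset.mem_filter] at hu
        have huc : IsConj t u := hc.trans (d.conj_of hτ hτP hu.2.1 hu.2.2)
        have huu := d.inv_of hu.2.1 hu.2.2
        have huxN : u * x ∈ normalizer (P : Set G) := Subgroup.mul_mem _ hu.2.1 (Subgroup.le_normalizer hx)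
        have huxP : u * x ∉ P := by
          intro h
          apply hu.2.2
          have : u = (u * x) * x⁻¹ := by group
          rw [this]
          exact P.mul_mem h (P.inv_mem hx)
        have huxc : IsConj t (u * x) := hc.trans (d.conj_of hτ hτP huxN huxP)
        have e : ((Finset.univ : Finset (G × G)).filter
          (fun q => q.1 * t * q.1⁻¹ * (q.2 * t * q.2⁻¹) = x)).filter
            (fun q => q.1 * t * q.1⁻¹ = u) =
            (Finset.univ.filter (fun q : G => q * t * q⁻¹ = u)) ×ˢ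
              (Finset.univ.filter (fun q : G => q * t * q⁻¹ = u * x)) := by
          ext q
          simp only [Finset.mem_filter, Finset.mem_univ, true_and, Finset.mem_product]
          constructor
          · rintro ⟨h1, h2⟩
            refine ⟨h2, ?_⟩
            rw [h2] at h1
            rw [← h1, ← mul_assoc, huu, one_mul]
          · rintro ⟨h1, h2⟩
            refine ⟨?_, h1⟩
            rw [h1, h2, ← mul_assoc, huu, one_mul]
        rw [e, Finset.card_product, card_conj_to huc, card_conj_to huxc, pow_two]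
      rw [Finset.sum_congr rfl hfib, Finset.sum_const, hNPcard, smul_eq_mul]
    · intro q hq
      have hq' := (Finset.mem_filter.mp hq).2
      exact Finset.mem_filter.mpr ⟨Finset.mem_univ _, hmem q hq'⟩

/-- The degrees. -/
theorem Two.degrees (hperf : commutator G = ⊤) : ∃ (χ ψ : IrrCharacter G) (δ δ₀ : ℤ), χ ≠ oneIrr G ∧
    (δ = 1 ∨ δ = -1) ∧ (δ₀ = 1 ∨ δ₀ = -1) ∧ 1 + δ * dg χ + δ₀ * dg ψ = 0 ∧ (p : ℤ) ∣ dg χ - δ ∧
    dg χ ∣ 2 * (normalizer (P : Set G)).index ∧ dg ψ ∣ 2 * (normalizer (P : Set G)).index ∧ 1 < dg χ ∧ 1 < dg ψ ∧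
    ∀ (τ : G), τ ∈ normalizer (P : Set G) → τ ∉ P → ∀ t : G, orderOf t = 2 → ∃ a : ℤ, (χ : G → ℂ) t = a ∧
      (¬ IsConj t τ → (0 : ℤ) = dg χ * dg ψ + δ * a ^ 2 * dg ψ + δ₀ * (1 + δ * a) ^ 2 * dg χ) ∧
      (IsConj t τ → (p : ℤ) * (Nat.card (centralizer ({t} : Set G)) : ℤ) ^ 2 * (dg χ * dg ψ) =
        Nat.card G * (dg χ * dg ψ + δ * a ^ 2 * dg ψ + δ₀ * (1 + δ * a) ^ 2 * dg χ)) := by
  classical
  haveI : Fintype (IrrCharacter G) := Fintype.ofFinite _
  have h1 := d.st.B.cardX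
  rw [d.he] at h1
  obtain ⟨a, b, hab, hX⟩ := Finset.card_eq_two.mp h1
  have h2 := d.st.B.one_mem
  obtain ⟨χ, hχ1, hX'⟩ : ∃ χ : IrrCharacter G, χ ≠ oneIrr G ∧ d.st.B.X = {oneIrr G, χ} := by
    rw [hX, Finset.mem_insert, Finset.mem_singleton] at h2
    rcases h2 with h | h
    · exact ⟨b, by rw [h]; exact hab.symm, by rw [hX, h]⟩
    · exact ⟨a, by rw [h]; exact hab, by rw [hX, h, Finset.pair_comm]⟩
  have hχ : χ ∈ d.st.B.X := by rw [hX']; simp
  obtain ⟨ψ, hψ⟩ := d.st.exists_Y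
  have h4 : (dg (oneIrr G) : ℤ) = 1 := by
    have : ((dg (oneIrr G) : ℕ) : ℂ) = 1 := by rw [← dg_eq, CharBase.oneIrr_apply]
    exact_mod_cast this
  have hψ1 : ψ ≠ oneIrr G := by
    rintro rfl
    exact Finset.disjoint_left.mp d.st.B.disj d.st.B.one_mem hψ
  have hdeg := d.st.B.degEq hψ
  rw [hX', Finset.sum_pair hχ1.symm, d.st.B.δ_one d.st.hP, h4] at hdeg
  have hgt : ∀ ξ : IrrCharacter G, ξ ≠ oneIrr G → 1 < dg ξ := by
    intro ξ hξ
    have h5 := dg_pos ξ
    by_contra h6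
    exact hξ (eq_one_of_perfect hperf (by omega))
  refine ⟨χ, ψ, d.st.B.δ χ, d.st.B.δ₀, hχ1, d.st.B.sgn χ hχ, d.st.B.sgn₀, by linarith, d.st.B.congr_X d.st.hP hχ, ?_, ?_,
    hgt χ hχ1, hgt ψ hψ1, ?_⟩
  · have := d.st.B.dvd_X d.st.hP hχ
    rwa [d.he] at this
  · have := d.st.B.dvd_Y d.st.hP hψ
    rwa [d.he] at this
  · intro τ hτ hτP t ht
    have htt : t * t = 1 := by rw [← pow_two, ← ht]; exact pow_orderOf_eq_one t
    obtain ⟨a, ha⟩ := H4.exists_int_value (CharBase.irr_isCharacter χ) htt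
    refine ⟨a, ha, ?_⟩
    obtain ⟨x, hx, hx1⟩ := exists_ne_one d.st.hP
    have hpt : ¬ p ∣ orderOf t := by
      rw [ht]
      intro h
      have := Nat.le_of_dvd (by norm_num) h
      have := d.st.hp3
      omega
    have hreg := d.st.B.reg t hpt ψ hψ
    rw [hX', Finset.sum_pair hχ1.symm, d.st.B.δ_one d.st.hP, CharBase.oneIrr_apply, ha] at hreg
    have hcp := d.st.card_pairs hpt hpt hx hx1 hψ
    rw [hX', Finset.sum_pair hχ1.symm, d.st.B.δ_one d.st.hP, CharBase.oneIrr_apply, ha,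
      show ((dg (oneIrr G) : ℕ) : ℂ) = 1 by exact_mod_cast h4] at hcp
    obtain ⟨hc0, hc1⟩ := d.count hτ hτP htt hx hx1
    -- eliminate psi(t)
    have hδ₀ : (d.st.B.δ₀ : ℂ) * d.st.B.δ₀ = 1 := by
      rcases d.st.B.sgn₀ with h | h <;> rw [h] <;> norm_num
    have hψt : (ψ : G → ℂ) t = - (d.st.B.δ₀ : ℂ) * (1 + d.st.B.δ χ * a) := by
      have h5 : (d.st.B.δ₀ : ℂ) * (((1 : ℤ) : ℂ) * 1 + (d.st.B.δ χ : ℂ) * a + d.st.B.δ₀ * (ψ : G → ℂ) t) = 0 := by
        rw [hreg, mul_zero]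
      have h6 : (d.st.B.δ₀ : ℂ) * (((1 : ℤ) : ℂ) * 1 + (d.st.B.δ χ : ℂ) * a + d.st.B.δ₀ * (ψ : G → ℂ) t) =
        (d.st.B.δ₀ : ℂ) * (1 + d.st.B.δ χ * a) + (d.st.B.δ₀ * d.st.B.δ₀) * (ψ : G → ℂ) t := by push_cast; ring
      rw [h6, hδ₀, one_mul] at h5
      linear_combination h5
    have hf0 : (dg χ : ℂ) ≠ 0 := by exact_mod_cast (dg_pos χ).ne'
    have hd0 : (dg ψ : ℂ) ≠ 0 := by exact_mod_cast (dg_pos ψ).ne'
    have hG0 : (Nat.card G : ℂ) ≠ 0 := by exact_mod_cast Nat.card_pos.ne'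
    have hsum : ((((Finset.univ : Finset (G × G)).filter
        (fun q => q.1 * t * q.1⁻¹ * (q.2 * t * q.2⁻¹) = x)).card : ℕ) : ℂ) * (dg χ * dg ψ) =
        Nat.card G * (dg χ * dg ψ + d.st.B.δ χ * a ^ 2 * dg ψ + d.st.B.δ₀ * (1 + d.st.B.δ χ * a) ^ 2 * dg χ) := by
      rw [hcp, hψt]
      field_simp
      push_cast
      linear_combination (dg χ : ℂ) * (d.st.B.δ₀ : ℂ) * (1 + d.st.B.δ χ * a) ^ 2 * hδ₀
    constructor
    · intro hnc
      rw [hc0 hnc, Nat.cast_zero, zero_mul] at hsum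
      have h5 := (mul_eq_zero.mp hsum.symm).resolve_left hG0
      exact_mod_cast h5.symm
    · intro hcj
      rw [hc1 hcj] at hsum
      push_cast at hsum
      exact_mod_cast hsum

end Cfsg.Agent.H37.Ord
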