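import Cfsg.Agent.BT.E2
import Cfsg.Agent.H37.OrdE

/-!
Counting pairs of involutions for a self-centralizing Sylow subgroup of prime order: general inertial index.
-/

set_option autoImplicit false

open scoped ComplexConjugate

namespace Cfsg.Agent.H37.Ord

open Cfsg Subgroup Cfsg.Agent.BR Cfsg.Agent.BT
open Cfsg.Agent.CharBase (oneIrr)

universe u

variable {G : Type u} [Group G] [Fintype G] {p : ℕ} [hp : Fact p.Prime] {P : Subgroup G}

/-- Number of pairs of conjugates of an involution with a given product in `P`. -/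
theorem ex_count_or (st : Ex p P) [DecidableEq G] {t x : G} (ht : t * t = 1)
    (hx : x ∈ P) (hx1 : x ≠ 1) :
    ((Finset.univ : Finset (G × G)).filter
      (fun q => q.1 * t * q.1⁻¹ * (q.2 * t * q.2⁻¹) = x)).card = 0 ∨
    ((Finset.univ : Finset (G × G)).filter
      (fun q => q.1 * t * q.1⁻¹ * (q.2 * t * q.2⁻¹) = x)).card = p * (Nat.card (centralizer ({t} : Set G)) ^ 2) := by
  classical
  have hmem : ∀ q : G × G, q.1 * t * q.1⁻¹ * (q.2 * t * q.2⁻¹) = x →
      q.1 * t * q.1⁻¹ * x * (q.1 * t * q.1⁻¹)⁻¹ = x⁻¹ := by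
    intro q hq
    have hu : (q.1 * t * q.1⁻¹) * (q.1 * t * q.1⁻¹) = 1 := by
      calc (q.1 * t * q.1⁻¹) * (q.1 * t * q.1⁻¹) = q.1 * (t * t) * q.1⁻¹ := by group
        _ = 1 := by rw [ht]; group
    have hv : (q.2 * t * q.2⁻¹) * (q.2 * t * q.2⁻¹) = 1 := by
      calc (q.2 * t * q.2⁻¹) * (q.2 * t * q.2⁻¹) = q.2 * (t * t) * q.2⁻¹ := by group
        _ = 1 := by rw [ht]; group
    generalize q.1 * t * q.1⁻¹ = u at *
    generalize q.2 * t * q.2⁻¹ = v at *
    have hu' : u⁻¹ = u := inv_eq_of_mul_eq_one_right hu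
    have hv' : v⁻¹ = v := inv_eq_of_mul_eq_one_right hv
    rw [← hq, mul_inv_rev, hu', hv']
    calc u * (u * v) * u = (u * u) * v * u := by group
      _ = v * u := by rw [hu, one_mul]
  rcases Finset.eq_empty_or_nonempty ((Finset.univ : Finset (G × G)).filter
      (fun q => q.1 * t * q.1⁻¹ * (q.2 * t * q.2⁻¹) = x)) with hemp | ⟨q0, hq0⟩
  · left
    rw [hemp, Finset.card_empty]
  · right
    have hq0' := (Finset.mem_filter.mp hq0).2
    have hinv0 := hmem q0 hq0'
    set u0 := q0.1 * t * q0.1⁻¹ with hu0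
    have hc0 : IsConj t u0 := isConj_iff.mpr ⟨q0.1, rfl⟩
    have hu0u0 : u0 * u0 = 1 := by
      rw [hu0]
      calc (q0.1 * t * q0.1⁻¹) * (q0.1 * t * q0.1⁻¹) = q0.1 * (t * t) * q0.1⁻¹ := by group
        _ = 1 := by rw [ht]; group
    have hu0inv : u0⁻¹ = u0 := inv_eq_of_mul_eq_one_right hu0u0
    have hxx : x ≠ x⁻¹ := by
      intro h
      have h2 : x ^ 2 = 1 := by
        rw [sq]; nth_rewrite 2 [h]; exact mul_inv_cancel x
      have h3 := orderOf_dvd_of_pow_eq_one h2
      rw [st.hP.orderOf_eq hx hx1] at h3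
      have := Nat.le_of_dvd (by norm_num) h3
      have := st.hp3
      omega
    have hu0P : u0 ∉ P := by
      intro h
      rw [st.P_comm u0 h x hx, mul_inv_cancel_right] at hinv0
      exact hxx hinv0
    have hu0N : u0 ∈ normalizer (P : Set G) := by
      rw [← inv_mem_iff, ← st.hP.conj_iff hx hx1, inv_inv, hinv0]
      exact P.inv_mem hx
    let I : Finset G := Finset.univ.filter (fun u => u * x * u⁻¹ = x⁻¹)
    have hIP : ∀ u, u ∈ I ↔ u0 * u ∈ P := by
      intro u
      constructor
      · intro hu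
        have hu := (Finset.mem_filter.mp hu).2
        apply mem_P_of_comm st.hP st.hC hx hx1
        have h1 : u * x = x⁻¹ * u := by rw [← hu]; group
        have h2 : u0 * x⁻¹ = x * u0 := by
          have : u0 * x = x⁻¹ * u0 := by rw [← hinv0]; group
          calc u0 * x⁻¹ = x * (x⁻¹ * u0) * x⁻¹ := by group
            _ = x * (u0 * x) * x⁻¹ := by rw [this]
            _ = x * u0 := by group
        calc x * (u0 * u) = (x * u0) * u := by group
          _ = u0 * x⁻¹ * u := by rw [h2]
          _ = u0 * (x⁻¹ * u) := by group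
          _ = u0 * u * x := by rw [← h1]; group
      · intro hu
        refine Finset.mem_filter.mpr ⟨Finset.mem_univ _, ?_⟩
        have h1 := st.P_comm _ hu x hx
        have h2 : u = u0 * (u0 * u) := by rw [← mul_assoc, hu0u0, one_mul]
        calc u * x * u⁻¹ = u0 * (u0 * u) * x * (u0 * (u0 * u))⁻¹ := by rw [← h2]
          _ = u0 * ((u0 * u) * x * (u0 * u)⁻¹) * u0⁻¹ := by group
          _ = u0 * (x * (u0 * u) * (u0 * u)⁻¹) * u0⁻¹ := by rw [h1]
          _ = u0 * x * u0⁻¹ := by group
          _ = x⁻¹ := hinv0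
    have hIcard : I.card = p := by
      rw [← st.hP.card, Nat.card_eq_fintype_card, Fintype.card_subtype]
      refine Finset.card_bij (fun u _ => u0 * u) ?_ ?_ ?_
      · intro u hu
        exact Finset.mem_filter.mpr ⟨Finset.mem_univ _, (hIP u).mp hu⟩
      · intro a _ b _ hab
        exact mul_left_cancel hab
      · intro y hy
        have hy := (Finset.mem_filter.mp hy).2
        refine ⟨u0 * y, (hIP _).mpr ?_, ?_⟩
        · rw [← mul_assoc, hu0u0, one_mul]; exact hy
        · rw [← mul_assoc, hu0u0, one_mul]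
    have hIconj : ∀ u ∈ I, IsConj t u := by
      intro u hu
      have h1 : u * u0⁻¹ ∈ P := by
        have h2 := (hIP u).mp hu
        have h3 := (st.hP.conj_iff hx hx1 (g := u0)).mp
        -- u * u0⁻¹ = u0 * (u0 * u) * u0⁻¹ 
        have h4 : u * u0⁻¹ = u0 * (u0 * u) * u0⁻¹ := by rw [← mul_assoc, hu0u0, one_mul]
        rw [h4]
        exact (Subgroup.mem_normalizer_iff.mp hu0N _).mp h2
      obtain ⟨y, -, hy⟩ := coset_conj st.hP st.hC hu0N hu0P h1
      exact hc0.trans (isConj_iff.mpr ⟨y, hy.symm⟩)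
    have hIsq : ∀ u ∈ I, u * u = 1 := by
      intro u hu
      obtain ⟨y, hy⟩ := isConj_iff.mp (hIconj u hu)
      rw [← hy]
      calc y * t * y⁻¹ * (y * t * y⁻¹) = y * (t * t) * y⁻¹ := by group
        _ = 1 := by rw [ht]; group
    have hIx : ∀ u ∈ I, u * x ∈ I := by
      intro u hu
      rw [hIP]
      rw [← mul_assoc]
      exact P.mul_mem ((hIP u).mp hu) hx
    rw [Finset.card_eq_sum_card_fiberwise (f := fun q : G × G => q.1 * t * q.1⁻¹) (t := I)]
    · have hfib : ∀ u ∈ I, (((Finset.univ : Finset (G × G)).filter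
          (fun q => q.1 * t * q.1⁻¹ * (q.2 * t * q.2⁻¹) = x)).filter
            (fun q => q.1 * t * q.1⁻¹ = u)).card = Nat.card (centralizer ({t} : Set G)) ^ 2 := by
        intro u hu
        have huu := hIsq u hu
        have e : ((Finset.univ : Finset (G × G)).filter
          (fun q => q.1 * t * q.1⁻¹ * (q.2 * t * q.2⁻¹) = x)).filter
            (fun q => q.1 * t * q.1⁻¹ = u) =
            (Finset.univ.filter (fun q : G => q * t * q⁻¹ = u)) ×ˢ
              (Finset.univ.filter (fun q : G => q * t * q⁻¹ = u * x)) := by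
          ext q
          simp only [Finset.mem_filter, Finset.mem_univ, true_and, Finset.mem_product]
          constructor
          · rintro ⟨h1, h2⟩
            refine ⟨h2, ?_⟩
            rw [h2] at h1
            rw [← h1, ← mul_assoc, huu, one_mul]
          · rintro ⟨h1, h2⟩
            refine ⟨?_, h1⟩
            rw [h1, h2, ← mul_assoc, huu, one_mul]
        rw [e, Finset.card_product, card_conj_to (hIconj u hu), card_conj_to (hIconj _ (hIx u hu)), pow_two]
      rw [Finset.sum_congr rfl hfib, Finset.sum_const, hIcard, smul_eq_mul]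
    · intro q hq
      have hq' := (Finset.mem_filter.mp hq).2
      exact Finset.mem_filter.mpr ⟨Finset.mem_univ _, hmem q hq'⟩

/-- squares of degrees are at most the group order -/
theorem dg_sq_le (χ : IrrCharacter G) : dg χ ^ 2 ≤ Nat.card G := by
  have h := sum_sq_le (1 : G) {χ} (fun χ => (dg χ : ℤ)) (by
    intro ξ _
    rw [dg_eq]
    push_cast
    rfl)
  rw [Finset.sum_singleton] at h
  have h2 : Nat.card (centralizer ({(1 : G)} : Set G)) ≤ Nat.card G := Subgroup.card_le_card_group _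
  have h3 : ((dg χ ^ 2 : ℕ) : ℤ) ≤ (Nat.card (centralizer ({(1 : G)} : Set G)) : ℤ) := by
    push_cast
    exact h
  exact (by exact_mod_cast h3 : dg χ ^ 2 ≤ Nat.card (centralizer ({(1 : G)} : Set G))).trans h2

/-- Integrality of the central character at an involution with integer value. -/
theorem dvd_central (χ : IrrCharacter G) {t : G} {a : ℤ} (ha : (χ : G → ℂ) t = a) :
    (dg χ : ℤ) ∣ (centralizer ({t} : Set G)).index * a := by
  have h := Cfsg.Agent.CharBase.isIntegral_centralChar χ.2 t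
  have hf0 : (dg χ : ℂ) ≠ 0 := by exact_mod_cast (dg_pos χ).ne'
  have h0 : (((centralizer ({t} : Set G)).index : ℂ) * (χ : G → ℂ) t / (χ : G → ℂ) 1) =
      ((((centralizer ({t} : Set G)).index * a : ℤ) : ℚ) / ((dg χ : ℤ) : ℚ) : ℚ) := by
    rw [ha, dg_eq]
    push_cast
    rfl
  have h' : IsIntegral ℤ (((((centralizer ({t} : Set G)).index * a : ℤ) : ℚ) / ((dg χ : ℤ) : ℚ) : ℚ) : ℂ) := by
    rw [← h0]
    exact h
  have h2 : IsIntegral ℤ ((((centralizer ({t} : Set G)).index * a : ℤ) : ℚ) / ((dg χ : ℤ) : ℚ) : ℚ) := by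
    have := (isIntegral_algebraMap_iff (algebraMap ℚ ℂ).injective).mp h'
    exact this
  obtain ⟨m, hm⟩ := IsIntegrallyClosed.isIntegral_iff.mp h2
  have hf0' : ((dg χ : ℤ) : ℚ) ≠ 0 := by exact_mod_cast (dg_pos χ).ne'
  rw [eq_div_iff hf0'] at hm
  refine ⟨m, ?_⟩
  have hm' : (m : ℚ) * ((dg χ : ℤ) : ℚ) = (((centralizer ({t} : Set G)).index * a : ℤ) : ℚ) := hm
  have : m * (dg χ : ℤ) = ((centralizer ({t} : Set G)).index * a : ℤ) := by exact_mod_cast hm'
  rw [← this, mul_comm]

end Cfsg.Agent.H37.Ord
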