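import Mathlib
import Cfsg.Prelude.Def_HallClasses

/-!
Basic criteria for pronormality.
-/

set_option autoImplicit false

namespace Cfsg.Agent.H37

open scoped Pointwise

universe u

lemma map_conj_eq_smul {G : Type u} [Group G] (g : G) (H : Subgroup G) :
    H.map (MulAut.conj g).toMonoidHom = MulAut.conj g • H := rfl

/-- two Sylow subgroups contained in `K` are conjugate in `K` -/
lemma exists_conj_mem_of_le {G : Type u} [Group G] [Finite G] {p : ℕ} [Fact p.Prime] (S T : Sylow p G)
    {K : Subgroup G} (h1 : (S : Subgroup G) ≤ K) (h2 : (T : Subgroup G) ≤ K) : ∃ k ∈ K, k • S = T := by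
  obtain ⟨k, hk⟩ := MulAction.exists_smul_eq K (S.subtype h1) (T.subtype h2)
  rw [Sylow.smul_subtype] at hk
  exact ⟨k, k.2, Sylow.subtype_injective hk⟩

/-- overgroups of a self-normalizing Sylow subgroup are pronormal -/
theorem isPronormal_of_selfNormalizing {G : Type u} [Group G] [Finite G] {p : ℕ} [Fact p.Prime]
    (S : Sylow p G) (H : Subgroup G) (hS : Subgroup.normalizer ((S : Subgroup G) : Set G) ≤ H)
    (hSH : (S : Subgroup G) ≤ H) : Cfsg.IsPronormal H := by
  intro g
  have h1 : (S : Subgroup G) ≤ H ⊔ H.map (MulAut.conj g).toMonoidHom := hSH.trans le_sup_left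
  have h2 : ((g • S : Sylow p G) : Subgroup G) ≤ H ⊔ H.map (MulAut.conj g).toMonoidHom := by
    rw [Sylow.coe_subgroup_smul, map_conj_eq_smul]
    exact le_trans (Subgroup.pointwise_smul_le_pointwise_smul_iff.2 hSH) le_sup_right
  obtain ⟨k, hkK, hk'⟩ := exists_conj_mem_of_le S (g • S) h1 h2
  refine ⟨k, hkK, ?_⟩
  have hn : k⁻¹ * g ∈ Subgroup.normalizer ((S : Subgroup G) : Set G) := by
    have : (k⁻¹ * g) • S = S := by rw [mul_smul, ← hk', inv_smul_smul]
    exact Sylow.smul_eq_iff_mem_normalizer.1 this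
  have hH : k⁻¹ * g ∈ H := hS hn
  rw [map_conj_eq_smul, map_conj_eq_smul]
  have h3 : MulAut.conj (k⁻¹ * g) • H = H := by
    ext y
    rw [Subgroup.mem_pointwise_smul_iff_inv_smul_mem]
    have : (MulAut.conj (k⁻¹ * g))⁻¹ • y = (k⁻¹ * g)⁻¹ * y * (k⁻¹ * g) := by
      rw [← map_inv]; simp [mul_assoc]
    rw [this]
    constructor
    · intro hy
      have := H.mul_mem (H.mul_mem hH hy) (H.inv_mem hH)
      convert this using 1
      group
    · intro hy
      exact H.mul_mem (H.mul_mem (H.inv_mem hH) hy) hH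
  calc MulAut.conj g • H = MulAut.conj k • (MulAut.conj (k⁻¹ * g) • H) := by
        rw [← mul_smul, ← map_mul]; congr 2; group
    _ = MulAut.conj k • H := by rw [h3]

/-- Sylow subgroups are pronormal -/
theorem isPronormal_sylow {G : Type u} [Group G] [Finite G] {p : ℕ} [Fact p.Prime] (S : Sylow p G) :
    Cfsg.IsPronormal (S : Subgroup G) := by
  intro g
  have h1 : (S : Subgroup G) ≤ (S : Subgroup G) ⊔ (S : Subgroup G).map (MulAut.conj g).toMonoidHom :=
    le_sup_left
  have h2 : ((g • S : Sylow p G) : Subgroup G) ≤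
      (S : Subgroup G) ⊔ (S : Subgroup G).map (MulAut.conj g).toMonoidHom := by
    rw [Sylow.coe_subgroup_smul, map_conj_eq_smul]
    exact le_sup_right
  obtain ⟨k, hkK, hk'⟩ := exists_conj_mem_of_le S (g • S) h1 h2
  refine ⟨k, hkK, ?_⟩
  rw [map_conj_eq_smul, map_conj_eq_smul, ← Sylow.coe_subgroup_smul, ← Sylow.coe_subgroup_smul, hk']

/-- maximal subgroups (and the whole group) are pronormal -/
theorem isPronormal_of_maximal {G : Type u} [Group G] [Finite G] (H : Subgroup G)
    (hH : ∀ K : Subgroup G, H ≤ K → K = H ∨ K = ⊤) : Cfsg.IsPronormal H := by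
  intro g
  rcases hH (H ⊔ H.map (MulAut.conj g).toMonoidHom) le_sup_left with h | h
  · have h1 : H.map (MulAut.conj g).toMonoidHom ≤ H := by
      conv_rhs => rw [← h]
      exact le_sup_right
    have h2 : H.map (MulAut.conj g).toMonoidHom = H := by
      apply Subgroup.eq_of_le_of_card_ge h1
      rw [Subgroup.card_map_of_injective (MulEquiv.injective (MulAut.conj g))]
    refine ⟨1, Subgroup.one_mem _, ?_⟩
    rw [h2, map_conj_eq_smul, map_one, one_smul]
  · refine ⟨g, ?_, rfl⟩
    rw [h]; exact Subgroup.mem_top g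

/-- a subgroup of index one or prime has only the obvious overgroups -/
theorem eq_or_top_of_prime_index {G : Type u} [Group G] [Finite G] (H : Subgroup G)
    (hp : H.index = 1 ∨ (H.index).Prime) (K : Subgroup G) (hHK : H ≤ K) : K = H ∨ K = ⊤ := by
  have h1 := Subgroup.relIndex_mul_index hHK
  rcases hp with hp | hp
  · right
    have : H = ⊤ := Subgroup.index_eq_one.1 hp
    rw [this] at hHK
    exact top_le_iff.1 hHK
  · rcases (Nat.dvd_prime hp).1 (Dvd.intro_left _ h1) with h2 | h2
    · right; exact Subgroup.index_eq_one.1 h2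
    · left
      rw [h2] at h1
      have h3 : H.relIndex K = 1 := by
        have hpos := hp.pos
        exact Nat.eq_of_mul_eq_mul_right hpos (by rw [h1, one_mul])
      exact le_antisymm (Subgroup.relIndex_eq_one.1 h3) hHK

/-- a subgroup of index prime to `p` contains a Sylow `p`-subgroup -/
theorem exists_sylow_le {G : Type u} [Group G] [Finite G] {p : ℕ} [Fact p.Prime] (H : Subgroup G)
    (hcop : ¬ p ∣ H.index) : ∃ S : Sylow p G, (S : Subgroup G) ≤ H := by
  obtain ⟨Q⟩ : Nonempty (Sylow p H) := inferInstance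
  have hcardQ : Nat.card ((Q : Subgroup H).map H.subtype) = p ^ (Nat.card G).factorization p := by
    rw [Subgroup.card_map_of_injective H.subtype_injective, Q.card_eq_multiplicity]
    congr 1
    rw [← H.card_mul_index, Nat.factorization_mul (Nat.card_pos.ne') (Subgroup.index_ne_zero_of_finite)]
    simp only [Finsupp.coe_add, Pi.add_apply]
    rw [Nat.factorization_eq_zero_of_not_dvd hcop, add_zero]
  refine ⟨Sylow.ofCard _ hcardQ, ?_⟩
  rw [Sylow.coe_ofCard]
  exact Subgroup.map_subtype_le _

end Cfsg.Agent.H37
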